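import Groth.Agent.Lib.ProjCoh.Generic
import Groth.Agent.Lib.Cohom.LinearLES

/-!
# Finiteness of coherent cohomology for proper schemes over a Noetherian ring
-/

universe u

open AlgebraicGeometry CategoryTheory CategoryTheory.Limits

namespace GrothLib.ProjCoh

/-- The cohomology of a coherent module on a proper scheme over a Noetherian ring is finite. -/
theorem moduleFinite_HH (A : Type u) [CommRing A] [IsNoetherianRing A] {X : Scheme.{u}}
    [X.Over (Spec (CommRingCat.of A))] [IsProper (X ↘ Spec (CommRingCat.of A))]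
    (M : X.Modules) (hM : Coh.IsCoh M) (n : ℕ) : Module.Finite A (Coh.HH X M n) := by
  have : IsLocallyNoetherian X :=
    LocallyOfFiniteType.isLocallyNoetherian (X ↘ Spec (CommRingCat.of A))
  have : CompactSpace X :=
    QuasiCompact.compactSpace_of_compactSpace (X ↘ Spec (CommRingCat.of A))
  have : IsNoetherian X := {}
  refine QCoh.devissage (fun M ↦ ∀ n, Module.Finite A (Coh.HH X M n)) ?_ ?_ ?_ Set.univ ?_ M hM
    (Set.subset_univ _) n
  · rintro M N ⟨e⟩ h k
    have := h k
    exact Cohom.finite_of_iso e k
  · intro M h k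
    have := Cohom.subsingleton_HH_of_isZero h k
    exact Module.Finite.of_surjective (0 : A →ₗ[A] _) fun x ↦ ⟨0, Subsingleton.elim _ _⟩
  · intro S hS _ _ _
    refine ⟨fun h₁ h₂ k ↦ ?_, fun h₁ h₃ k ↦ ?_, fun h₂ h₃ k ↦ ?_⟩
    · have := h₁ (k + 1)
      have := h₂ k
      exact Cohom.finite_X₃ hS k
    · have := h₁ k
      have := h₃ k
      exact Cohom.finite_X₂ hS k
    · obtain _ | k := k
      · have := h₂ 0
        exact Cohom.finite_X₁_zero hS
      · have := h₃ k
        have := h₂ (k + 1)
        exact Cohom.finite_X₁_succ hS k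
  · intro Z i _ _ _
    exact exists_generic_module A i

end GrothLib.ProjCoh
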