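import Groth.Agent.Lib.ProjCoh.Generic
import Groth.Agent.Lib.Cohom.LinearLES
import Groth.Agent.Lib.ProperOver.Basic
import Groth.Prelude.Def_ClSub2
import Groth.Prelude.Def_CohB1

/-!
# Finiteness of coherent cohomology for modules with proper support
-/

set_option backward.isDefEq.respectTransparency false
set_option linter.unusedSectionVars false

universe u

open AlgebraicGeometry CategoryTheory CategoryTheory.Limits TopologicalSpace Opposite Abelian
  GrothLib.ProjPt GrothLib.ProjSpCoord

namespace GrothLib.ProjCoh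

/-- An integral closed subscheme which is proper over the base carries a coherent module with finite
cohomology and one-dimensional generic stalk. -/
theorem exists_generic_module_of_isProper (A : Type u) [CommRing A] [IsNoetherianRing A] {X : Scheme.{u}}
    [X.Over (Spec (CommRingCat.of A))] [LocallyOfFiniteType (X ↘ Spec (CommRingCat.of A))]
    [QuasiCompact (X ↘ Spec (CommRingCat.of A))] {Z : Scheme.{u}}
    (i : Z ⟶ X) [IsClosedImmersion i] [IsIntegral Z] [IsProper (i ≫ X ↘ Spec (CommRingCat.of A))] :
    ∃ G : X.Modules, Coh.IsCoh G ∧ CohB1.support G ⊆ Set.range i ∧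
      Nonempty (G.presheaf.stalk (i (genericPoint Z)) ≃ₗ[X.presheaf.stalk (i (genericPoint Z))]
        IsLocalRing.ResidueField (X.presheaf.stalk (i (genericPoint Z)))) ∧
      ∀ p, Module.Finite A (Coh.HH X G p) := by
  set g : X ⟶ Spec (CommRingCat.of A) := X ↘ Spec (CommRingCat.of A)
  have : IsLocallyNoetherian X := LocallyOfFiniteType.isLocallyNoetherian g
  have : CompactSpace X := QuasiCompact.compactSpace_of_compactSpace g
  have : IsLocallyNoetherian Z := LocallyOfFiniteType.isLocallyNoetherian i
  have : CompactSpace Z := QuasiCompact.compactSpace_of_compactSpace i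
  have : IsNoetherian Z := {}
  obtain ⟨M, Y, π, j, hj, hjb, hπ, hπs, hred, hirr, U, hUd, hUiso, hYd⟩ :=
    GrothLib.Chow.chow_of_finite_components (i ≫ g)
      (NoetherianSpace.finite_irreducibleComponents (α := Z))
  have := hred inferInstance
  have := hirr inferInstance
  have := isIntegral_of_irreducibleSpace_of_isReduced Y
  have := GrothLib.Chow.isProper_toBase M (Spec (CommRingCat.of A))
  have : IsProper (j ≫ CohB1.ProjSpaceOver.toBase M (Spec (CommRingCat.of A))) := by
    rw [hjb]; infer_instance
  have : IsProper j := IsProper.of_comp j (CohB1.ProjSpaceOver.toBase M _)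
  have hjc : IsClosedImmersion j := (IsClosedImmersion.iff_isProper_and_mono j).2 ⟨inferInstance, inferInstance⟩
  let q : Y ⟶ Proj (CohB1.polyGrading M RZ.{u}) := j ≫ pullback.fst _ _
  have : IsAffineHom (specULiftZIsTerminal.from (Spec (CommRingCat.of A))) :=
    isAffineHom_of_isAffine _
  have : IsAffineHom q := by
    have : IsAffineHom (pullback.fst (CohB1.ProjSpace.toSpec M (ULift.{u} ℤ))
        (specULiftZIsTerminal.from (Spec (CommRingCat.of A)))) :=
      MorphismProperty.pullback_fst _ _ inferInstance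
    exact inferInstanceAs (IsAffineHom (j ≫ pullback.fst _ _))
  have hA : toProd q ((π ≫ i) ≫ g) = j := by
    apply pullback.hom_ext
    · exact pullback.lift_fst _ _ _
    · exact (pullback.lift_snd _ _ _).trans ((Category.assoc _ _ _).trans hjb.symm)
  have hcA : IsClosedImmersion (toProd q ((π ≫ i) ≫ g)) := hA ▸ hjc
  let m : CohB1.ProjSpaceOver M X ⟶ CohB1.ProjSpaceOver M (Spec (CommRingCat.of A)) :=
    pullback.map _ _ _ _ (𝟙 _) g (𝟙 _) (by simp) (specULiftZIsTerminal.hom_ext _ _)
  have hm : toProd q (π ≫ i) ≫ m = toProd q ((π ≫ i) ≫ g) := by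
    apply pullback.hom_ext
    · simp [m, toProd]
    · simp [m, toProd]
  have hsq : IsPullback m (CohB1.ProjSpaceOver.toBase M X)
      (CohB1.ProjSpaceOver.toBase M (Spec (CommRingCat.of A))) g := by
    refine IsPullback.of_right ?_ (by simp [m, CohB1.ProjSpaceOver.toBase])
      (IsPullback.of_hasPullback (CohB1.ProjSpace.toSpec M (ULift.{u} ℤ))
        (specULiftZIsTerminal.from (Spec (CommRingCat.of A))))
    have e1 : m ≫ pullback.fst (CohB1.ProjSpace.toSpec M (ULift.{u} ℤ))
        (specULiftZIsTerminal.from (Spec (CommRingCat.of A))) =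
        pullback.fst (CohB1.ProjSpace.toSpec M (ULift.{u} ℤ)) (specULiftZIsTerminal.from X) :=
      (pullback.lift_fst _ _ _).trans (Category.comp_id _)
    rw [e1, specULiftZIsTerminal.comp_from]
    exact IsPullback.of_hasPullback _ _
  have : IsClosedImmersion (toProd q (π ≫ i) ≫ m) := hm ▸ hcA
  have : Mono (toProd q (π ≫ i)) := mono_of_mono _ m
  have hb : toProd q (π ≫ i) ≫ CohB1.ProjSpaceOver.toBase M X = π ≫ i := pullback.lift_snd _ _ _
  have := GrothLib.Chow.isProper_toBase M X
  have : IsProper (toProd q (π ≫ i) ≫ CohB1.ProjSpaceOver.toBase M X) := by rw [hb]; infer_instance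
  have : IsProper (toProd q (π ≫ i)) := IsProper.of_comp _ (CohB1.ProjSpaceOver.toBase M X)
  have : IsClosedImmersion (toProd q (π ≫ i)) :=
    (IsClosedImmersion.iff_isProper_and_mono _).2 ⟨inferInstance, inferInstance⟩
  obtain ⟨d, hcoh, hfin⟩ := exists_push_twist_finite q (π ≫ i) A
  have := hcoh.1
  have hne : ((π ⁻¹ᵁ U : Y.Opens) : Set Y).Nonempty := hYd.nonempty
  obtain ⟨hsupp, hstalk⟩ := push_twist_stalk q π i U hUiso
    ((genericPoint_spec Y).mem_open_set_iff (π ⁻¹ᵁ U).isOpen |>.2 (by simpa using hne)) d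
  exact ⟨_, hcoh, hsupp, hstalk, hfin⟩

/-- The cohomology of a coherent module whose support is proper over a Noetherian ring is finite. -/
theorem moduleFinite_HH_of_isProperOver (A : Type u) [CommRing A] [IsNoetherianRing A] {X : Scheme.{u}}
    [X.Over (Spec (CommRingCat.of A))] [LocallyOfFiniteType (X ↘ Spec (CommRingCat.of A))]
    [QuasiCompact (X ↘ Spec (CommRingCat.of A))] (M : X.Modules) (hM : Coh.IsCoh M)
    (hs : ClSub.IsProperOver (X ↘ Spec (CommRingCat.of A)) (CohB1.support M)) (n : ℕ) :
    Module.Finite A (Coh.HH X M n) := by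
  have : IsLocallyNoetherian X :=
    LocallyOfFiniteType.isLocallyNoetherian (X ↘ Spec (CommRingCat.of A))
  have : CompactSpace X :=
    QuasiCompact.compactSpace_of_compactSpace (X ↘ Spec (CommRingCat.of A))
  have : IsNoetherian X := {}
  refine QCoh.devissage (fun M ↦ ∀ n, Module.Finite A (Coh.HH X M n)) ?_ ?_ ?_ (CohB1.support M) ?_
    M hM subset_rfl n
  · rintro M N ⟨e⟩ h k
    have := h k
    exact Cohom.finite_of_iso e k
  · intro M h k
    have := Cohom.subsingleton_HH_of_isZero h k
    exact Module.Finite.of_surjective (0 : A →ₗ[A] _) fun x ↦ ⟨0, Subsingleton.elim _ _⟩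
  · intro S hS _ _ _
    refine ⟨fun h₁ h₂ k ↦ ?_, fun h₁ h₃ k ↦ ?_, fun h₂ h₃ k ↦ ?_⟩
    · have := h₁ (k + 1)
      have := h₂ k
      exact Cohom.finite_X₃ hS k
    · have := h₁ k
      have := h₃ k
      exact Cohom.finite_X₂ hS k
    · obtain _ | k := k
      · have := h₂ 0
        exact Cohom.finite_X₁_zero hS
      · have := h₃ k
        have := h₂ (k + 1)
        exact Cohom.finite_X₁_succ hS k
  · intro Z i _ _ hi
    have : IsProper (i ≫ X ↘ Spec (CommRingCat.of A)) :=
      ProperOver.isProper_of_isProperOver _ i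
        (ProperOver.IsProperOver.subset _ hs i.isClosedEmbedding.isClosed_range hi)
    exact exists_generic_module_of_isProper A i

end GrothLib.ProjCoh
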