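import Groth.Agent.Lib.ProjCoh.Vanishing
import Groth.Agent.Lib.QCoh.Devissage
import Groth.Agent.Lib.Chow.Main
import Groth.Agent.Lib.Cohom.Compare
import Mathlib.AlgebraicGeometry.ZariskisMainTheorem

/-!
# A module with finite cohomology at the generic point of an integral closed subscheme
-/

set_option backward.isDefEq.respectTransparency false
set_option linter.unusedSectionVars false

universe u

open AlgebraicGeometry CategoryTheory CategoryTheory.Limits TopologicalSpace Opposite Abelian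
  GrothLib.ProjPt GrothLib.ProjSpCoord

namespace GrothLib.ProjCoh

section H0

variable {X : Scheme.{u}}

/-- `H^0` is the group of global sections. -/
noncomputable def H0top (M : X.Modules) : Coh.HH X M 0 ≃+ Γ(M, ⊤) :=
  (Cohom.HEquivTop _ 0).trans (Cohom.H0Equiv _ ⊤)

theorem H0Equiv_HEquivTop_map {T : Type u} [TopologicalSpace T] {F G : Cohom.AbSheaf T} (φ : F ⟶ G)
    (x : Sheaf.H F 0) :
    Cohom.H0Equiv G ⊤ (Cohom.HEquivTop G 0 (Sheaf.H.map φ 0 x)) =
      φ.hom.app (op ⊤) (Cohom.H0Equiv F ⊤ (Cohom.HEquivTop F 0 x)) := by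
  obtain ⟨ψ, hψ⟩ := (Ext.mk₀_bijective _ _).surjective (Cohom.HEquivTop F 0 x)
  have : Cohom.HEquivTop G 0 (Sheaf.H.map φ 0 x) = Ext.mk₀ (ψ ≫ φ) := by
    rw [← Ext.mk₀_comp_mk₀, hψ]
    exact (Ext.comp_assoc_of_third_deg_zero (C := Cohom.AbSheaf T) (Ext.mk₀ Cohom.freeTopIso.hom) (show Ext.{u} _ F 0 from x) (Ext.mk₀ φ) (zero_add 0)).symm
  rw [this, ← hψ, Cohom.H0Equiv_mk₀, Cohom.H0Equiv_mk₀, Cohom.sectionsEquiv_comp]

theorem H0top_map {M N : X.Modules} (φ : Coh.toAb M ⟶ Coh.toAb N) (x : Coh.HH X M 0) :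
    H0top N (Sheaf.H.map φ 0 x) = φ.hom.app (op ⊤) (H0top M x) :=
  H0Equiv_HEquivTop_map φ x

theorem H0top_smul {A : Type u} [CommRing A] [X.Over (Spec (CommRingCat.of A))] (M : X.Modules)
    (a : A) (x : Coh.HH X M 0) :
    H0top M (a • x) = (show Γ(X, ⊤) from Coh.toGlobal (X ↘ Spec (CommRingCat.of A)) a) • H0top M x := by
  refine (H0top_map (Coh.smulAb M _) x).trans ?_
  rw [Coh.smulAb_app]
  congr 1
  exact (congrArg (fun φ ↦ (CommRingCat.Hom.hom φ) _) (X.presheaf.map_id (op ⊤)) : _)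

end H0

variable {n : ℕ} {Y : Scheme.{u}} [IsIntegral Y] (q : Y ⟶ Proj (CohB1.polyGrading n RZ.{u}))
  [IsAffineHom q] {X : Scheme.{u}} (h : Y ⟶ X) [IsClosedImmersion (toProd q h)]

/-- For large twists the direct image is coherent and has finite cohomology. -/
theorem exists_push_twist_finite [IsLocallyNoetherian X] [CompactSpace X] [QuasiCompact h]
    [QuasiSeparated h] (A : Type u) [CommRing A] [IsNoetherianRing A]
    [X.Over (Spec (CommRingCat.of A))]
    [IsClosedImmersion (toProd q (h ≫ X ↘ Spec (CommRingCat.of A)))] :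
    ∃ d : ℕ, Coh.IsCoh ((Coh.push h).obj (twist q d)) ∧
      ∀ p, Module.Finite A (Coh.HH X ((Coh.push h).obj (twist q d)) p) := by
  obtain ⟨s, hs⟩ := isCompact_univ.elim_finite_subcover (fun U : X.affineOpens ↦ (U.1 : Set X))
    (fun U ↦ U.1.isOpen) fun x _ ↦ by
      obtain ⟨U, hU, hxU, -⟩ := exists_isAffineOpen_mem_and_subset (x := x) (U := ⊤) trivial
      exact Set.mem_iUnion.2 ⟨⟨U, hU⟩, hxU⟩
  have hb : ∀ U : X.affineOpens, _ := fun U ↦
    have : IsNoetherianRing Γ(X, U.1) := IsLocallyNoetherian.component_noetherian U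
    exists_twist_bound q h U.2
  choose d₁ hd₁ using hb
  set g : X ⟶ Spec (CommRingCat.of A) := X ↘ Spec (CommRingCat.of A)
  have : IsNoetherianRing Γ(Spec (CommRingCat.of A), ⊤) :=
    isNoetherianRing_of_ringEquiv A (Scheme.ΓSpecIso (CommRingCat.of A)).commRingCatIsoToRingEquiv.symm
  obtain ⟨d₂, hd₂⟩ := exists_twist_bound q (h ≫ g) (isAffineOpen_top (Spec (CommRingCat.of A)))
  set d := max d₂ (s.sup d₁)
  refine ⟨d, ?_, ?_⟩
  · have := twist_isQuasicoherent q d
    have := QCoh.isQuasicoherent_pushforward h (twist q d)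
    refine ⟨this, QCoh.isFiniteType_of_moduleFinite _ (fun U : s ↦ U.1.1) (top_le_iff.1 fun x _ ↦ ?_)
      (fun U ↦ U.1.2) fun U ↦ (hd₁ U.1 d ((Finset.le_sup U.2).trans (le_max_right _ _))).2⟩
    obtain ⟨U, hU, hx⟩ := Set.mem_iUnion₂.1 (hs (Set.mem_univ x))
    exact Opens.mem_iSup.2 ⟨⟨U, hU⟩, hx⟩
  intro p
  obtain _ | p := p
  · obtain ⟨T, hT⟩ : (⊤ : Submodule Γ(Spec (CommRingCat.of A), ⊤)
        Γ((Scheme.Modules.pushforward (h ≫ g)).obj (twist q d), ⊤)).FG :=
      (hd₂ d (le_max_left _ _)).2.fg_top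
    classical
    refine ⟨⟨T.image fun t ↦ (H0top ((Coh.push h).obj (twist q d))).symm t,
      top_le_iff.1 fun x _ ↦ ?_⟩⟩
    suffices ∀ t ∈ Submodule.span Γ(Spec (CommRingCat.of A), ⊤)
        (T : Set Γ((Scheme.Modules.pushforward (h ≫ g)).obj (twist q d), ⊤)),
        (H0top ((Coh.push h).obj (twist q d))).symm t ∈ Submodule.span A
          ((T.image fun t ↦ (H0top ((Coh.push h).obj (twist q d))).symm t : Finset _) : Set _) by
      have h1 := this (H0top ((Coh.push h).obj (twist q d)) x) (hT.ge trivial)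
      exact ((H0top ((Coh.push h).obj (twist q d))).symm_apply_apply x) ▸ h1
    intro t ht
    induction ht using Submodule.span_induction with
    | mem y hy => exact Submodule.subset_span (Finset.mem_image_of_mem _ hy)
    | zero => exact (map_zero (H0top ((Coh.push h).obj (twist q d))).symm).symm ▸ zero_mem _
    | add y z _ _ hy hz =>
      exact (map_add (H0top ((Coh.push h).obj (twist q d))).symm y z).symm ▸ add_mem hy hz
    | smul r y _ hy =>
      have e : (H0top ((Coh.push h).obj (twist q d))).symm (r • y) =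
          (Scheme.ΓSpecIso (CommRingCat.of A)).hom r •
            (H0top ((Coh.push h).obj (twist q d))).symm y := by
        apply (H0top ((Coh.push h).obj (twist q d))).injective
        rw [AddEquiv.apply_symm_apply, H0top_smul, AddEquiv.apply_symm_apply]
        rw [show Coh.toGlobal g ((Scheme.ΓSpecIso (CommRingCat.of A)).hom r) = g.appTop r from
          congrArg g.appTop (Iso.hom_inv_id_apply (Scheme.ΓSpecIso (CommRingCat.of A)) r)]
        rfl
      exact e.symm ▸ Submodule.smul_mem _ _ hy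
  · let B : Set X.Opens := {V | ∃ U ∈ s, ∃ b : Γ(X, U.1), V = X.basicOpen b}
    have hB : Opens.IsBasis B := by
      refine Opens.isBasis_iff_nbhd.2 fun {O x} hxO ↦ ?_
      obtain ⟨U, hU, hx⟩ := Set.mem_iUnion₂.1 (hs (Set.mem_univ x))
      obtain ⟨b, hb, hxb⟩ := U.2.exists_basicOpen_le (V := O) ⟨x, hxO⟩ hx
      exact ⟨_, ⟨U, hU, b, rfl⟩, hxb, hb⟩
    have hacy : Cohom.AcyclicOn h.base B (Coh.toAb (twist q d)) := by
      rintro _ ⟨U, hU, b, rfl⟩ m
      exact (hd₁ U d ((Finset.le_sup hU).trans (le_max_right _ _))).1 b m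
    obtain ⟨c⟩ := Cohom.nonempty_comparison_pushFun h.base hB ⊤ (p + 1)
    have h2 := (hd₂ d (le_max_left _ _)).1 1 p
    rw [Scheme.basicOpen_of_isUnit _ isUnit_one] at h2
    have : Subsingleton (Coh.HH X ((Coh.push h).obj (twist q d)) (p + 1)) :=
      ((Cohom.HEquivTop _ _).trans (c.equiv (Coh.toAb (twist q d)) hacy).symm).toEquiv.subsingleton_congr.2 h2
    exact Module.Finite.of_surjective (0 : A →ₗ[A] _) fun x ↦ ⟨0, Subsingleton.elim _ _⟩

/-- The generic stalk of a direct image of a twist along a birational morphism to a closed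
subscheme. -/
theorem push_twist_stalk {Z : Scheme.{u}} [IsIntegral Z] (π : Y ⟶ Z) [IsDominant π] (i : Z ⟶ X)
    [IsClosedImmersion i] (U : Z.Opens) (hU : IsIso (π ∣_ U)) (hYU : genericPoint Y ∈ π ⁻¹ᵁ U)
    (d : ℕ) [((Coh.push (π ≫ i)).obj (twist q d)).IsQuasicoherent] :
    CohB1.support ((Coh.push (π ≫ i)).obj (twist q d)) ⊆ Set.range i ∧
    Nonempty (((Coh.push (π ≫ i)).obj (twist q d)).presheaf.stalk (i (genericPoint Z))
      ≃ₗ[X.presheaf.stalk (i (genericPoint Z))]
      IsLocalRing.ResidueField (X.presheaf.stalk (i (genericPoint Z)))) := by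
  set G := (Coh.push (π ≫ i)).obj (twist q d) with hG
  have hk : ClSub.KilledByIdeal i.ker G := fun V r hr m ↦ by
    rw [Scheme.Hom.ker_apply, RingHom.mem_ker] at hr
    change (π ≫ i).app V.1 r • (show Γ(twist q d, (π ≫ i) ⁻¹ᵁ V.1) from m) = 0
    rw [Scheme.Hom.comp_app, ConcreteCategory.comp_apply]
    erw [hr]
    rw [map_zero, zero_smul]
  refine ⟨QCoh.support_subset_range i G hk, ?_⟩
  have hgen : π (genericPoint Y) = genericPoint Z := by
    refine ((genericPoint_spec Y).image π.continuous).eq ?_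
    rw [Set.image_univ, π.denseRange.closure_range]
    exact genericPoint_spec Z
  rw [← hgen]
  set y := genericPoint Y
  set x := i (π y)
  have hπ : IsIso (π.stalkMap y) := by
    have : IsIso (Arrow.mk ((π ∣_ U).stalkMap ⟨y, hYU⟩)).hom := by dsimp; infer_instance
    exact (MorphismProperty.arrow_mk_iso_iff (MorphismProperty.isomorphisms CommRingCat)
      (morphismRestrictStalkMap π U ⟨y, hYU⟩)).1 this
  have hcomp : ∀ r, ((π ≫ i).stalkMap y).hom r = (π.stalkMap y).hom ((i.stalkMap (π y)).hom r) :=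
    fun r ↦ by rw [Scheme.Hom.stalkMap_comp]; rfl
  have hsurj : Function.Surjective ((π ≫ i).stalkMap y).hom := fun z ↦ by
    obtain ⟨w, rfl⟩ := (ConcreteCategory.bijective_of_isIso (π.stalkMap y)).2 z
    obtain ⟨r, rfl⟩ := i.stalkMap_surjective (π y) w
    exact ⟨r, hcomp r⟩
  obtain ⟨k, hk'⟩ := exists_idx q y
  obtain ⟨V₁, hyV₁, hV₁⟩ : ∃ V₁ : X.Opens, x ∈ V₁ ∧ (π ≫ i) ⁻¹ᵁ V₁ ≤ chart q k.1 := by
    let e := Scheme.homeoOfIso (asIso (π ∣_ U))
    let C : Set Z := Subtype.val '' (e '' (Subtype.val ⁻¹' (chart q k.1 : Set Y)))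
    have hev : ∀ w, (e w).1 = π w.1 := fun w ↦ by
      change ((π ∣_ U) w).1 = π w.1
      rw [morphismRestrict_base]; rfl
    have hC : IsOpen C := U.isOpen.isOpenMap_subtype_val _
      ((e.isOpenMap) _ ((chart q k.1).isOpen.preimage continuous_subtype_val))
    obtain ⟨O, hO, hOC⟩ := i.isClosedEmbedding.isInducing.isOpen_iff.1 hC
    refine ⟨⟨O, hO⟩, ?_, fun z hz ↦ ?_⟩
    · exact hOC.ge ⟨e ⟨y, hYU⟩, ⟨⟨y, hYU⟩, hk', rfl⟩, hev _⟩
    · obtain ⟨_, ⟨w, hw, rfl⟩, hwz⟩ := hOC.le (show π z ∈ i ⁻¹' O from hz)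
      have hzU : z ∈ π ⁻¹ᵁ U := by
        change π z ∈ U
        rw [← hwz]; exact (e w).2
      have : (⟨z, hzU⟩ : π ⁻¹ᵁ U) = w := e.injective (Subtype.ext ((hev _).trans hwz.symm))
      rw [← this] at hw
      exact hw
  obtain ⟨s₀, hs₀⟩ := exists_section q (d := d) (V := (π ≫ i) ⁻¹ᵁ V₁) _ k hV₁ hyV₁ 1 rfl
  let v : G.presheaf.stalk x := G.presheaf.germ V₁ x hyV₁ s₀
  have hv : v ≠ 0 := fun h0 ↦ by
    obtain ⟨V', hxV', i₁, i₂, e⟩ :=
      TopCat.Presheaf.germ_eq G.presheaf x hyV₁ hyV₁ s₀ 0 (h0.trans (map_zero _).symm)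
    rw [map_zero] at e
    have e' := congrArg (fun t : Γ(twist q d, (π ≫ i) ⁻¹ᵁ V') ↦ tval q t (show y ∈ (π ≫ i) ⁻¹ᵁ V' from hxV')) e
    have h1 : tval q s₀ hyV₁ = 0 := e'.trans ((tvalHom q (d := d) _).map_zero)
    rw [hs₀, map_one, one_mul] at h1
    exact pow_ne_zero d (tau_ne_zero q k) h1
  have hgenv : ∀ w : G.presheaf.stalk x, ∃ r : X.presheaf.stalk x, r • v = w := fun w ↦ by
    obtain ⟨V, hxV, s, rfl⟩ := TopCat.Presheaf.exists_germ_eq G.presheaf w
    let s' : Γ(twist q d, (π ≫ i) ⁻¹ᵁ V) := s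
    obtain ⟨r, hr⟩ := hsurj (tval q s' hxV / tau q k ^ d)
    obtain ⟨V', hxV', a, rfl⟩ := X.presheaf.exists_germ_eq r
    refine ⟨X.presheaf.germ V' x hxV' a, ?_⟩
    rw [Scheme.Hom.germ_stalkMap_apply] at hr
    let W : X.Opens := V₁ ⊓ V ⊓ V'
    have hxW : x ∈ W := ⟨⟨hyV₁, hxV⟩, hxV'⟩
    change X.presheaf.germ V' x hxV' a • G.presheaf.germ V₁ x hyV₁ s₀ = G.presheaf.germ V x hxV s
    rw [← QCoh.germ_map G (homOfLE (inf_le_left.trans inf_le_left : W ≤ V₁)) hxW s₀,
      ← TopCat.Presheaf.germ_res_apply X.presheaf (homOfLE (inf_le_right : W ≤ V')) x hxW a,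
      ← WeakAss.germ_smul hxW, ← QCoh.germ_map G (homOfLE (inf_le_left.trans inf_le_right : W ≤ V)) hxW s]
    congr 1
    change (π ≫ i).app W (X.presheaf.map (homOfLE (inf_le_right : W ≤ V')).op a) •
        (show Γ(twist q d, (π ≫ i) ⁻¹ᵁ W) from (twist q d).presheaf.map
          (homOfLE ((π ≫ i).preimage_mono (inf_le_left.trans inf_le_left : W ≤ V₁))).op s₀) =
      (show Γ(twist q d, (π ≫ i) ⁻¹ᵁ W) from (twist q d).presheaf.map
          (homOfLE ((π ≫ i).preimage_mono (inf_le_left.trans inf_le_right : W ≤ V))).op s')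
    refine tval_ext q fun hW ↦ ?_
    rw [tval_smul, tval_map, tval_map]
    erw [hs₀]
    rw [map_one, one_mul, ← ConcreteCategory.comp_apply (X.presheaf.map _), Scheme.Hom.naturality,
      ConcreteCategory.comp_apply, TopCat.Presheaf.germ_res_apply]
    erw [hr]
    exact div_mul_cancel₀ _ (pow_ne_zero d (tau_ne_zero q k))
  let L := LinearMap.toSpanSingleton (X.presheaf.stalk x) _ v
  have hL : Function.Surjective L := hgenv
  have hker : LinearMap.ker L = IsLocalRing.maximalIdeal (X.presheaf.stalk x) := by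
    ext r
    change r • v = 0 ↔ r ∈ IsLocalRing.maximalIdeal _
    refine ⟨fun h0 hu ↦ hv (hu.smul_eq_zero.1 h0), fun hr ↦ ?_⟩
    refine QCoh.smul_eq_zero_of_killed i G hk (π y) r ?_ v
    refine (ConcreteCategory.bijective_of_isIso (π.stalkMap y)).1 ?_
    rw [map_zero]
    by_contra hne
    refine hr ((isUnit_map_iff ((π ≫ i).stalkMap y).hom r).1 ?_)
    erw [hcomp]
    exact IsUnit.mk0 (G₀ := Y.functionField) _ hne
  exact ⟨((Submodule.quotEquivOfEq _ _ hker.symm).trans (L.quotKerEquivOfSurjective hL)).symm⟩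

/-- Each integral closed subscheme carries a coherent module with finite cohomology and
one-dimensional generic stalk. -/
theorem exists_generic_module (A : Type u) [CommRing A] [IsNoetherianRing A] {X : Scheme.{u}}
    [X.Over (Spec (CommRingCat.of A))] [IsProper (X ↘ Spec (CommRingCat.of A))] {Z : Scheme.{u}}
    (i : Z ⟶ X) [IsClosedImmersion i] [IsIntegral Z] :
    ∃ G : X.Modules, Coh.IsCoh G ∧ CohB1.support G ⊆ Set.range i ∧
      Nonempty (G.presheaf.stalk (i (genericPoint Z)) ≃ₗ[X.presheaf.stalk (i (genericPoint Z))]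
        IsLocalRing.ResidueField (X.presheaf.stalk (i (genericPoint Z)))) ∧
      ∀ p, Module.Finite A (Coh.HH X G p) := by
  set g : X ⟶ Spec (CommRingCat.of A) := X ↘ Spec (CommRingCat.of A)
  have : IsLocallyNoetherian X := LocallyOfFiniteType.isLocallyNoetherian g
  have : CompactSpace X := QuasiCompact.compactSpace_of_compactSpace g
  have : IsLocallyNoetherian Z := LocallyOfFiniteType.isLocallyNoetherian i
  have : CompactSpace Z := QuasiCompact.compactSpace_of_compactSpace i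
  have : IsNoetherian Z := {}
  obtain ⟨M, Y, π, j, hj, hjb, hπ, hπs, hred, hirr, U, hUd, hUiso, hYd⟩ :=
    GrothLib.Chow.chow_of_finite_components (i ≫ g)
      (NoetherianSpace.finite_irreducibleComponents (α := Z))
  have := hred inferInstance
  have := hirr inferInstance
  have := isIntegral_of_irreducibleSpace_of_isReduced Y
  have := GrothLib.Chow.isProper_toBase M (Spec (CommRingCat.of A))
  have : IsProper (j ≫ CohB1.ProjSpaceOver.toBase M (Spec (CommRingCat.of A))) := by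
    rw [hjb]; infer_instance
  have : IsProper j := IsProper.of_comp j (CohB1.ProjSpaceOver.toBase M _)
  have hjc : IsClosedImmersion j := (IsClosedImmersion.iff_isProper_and_mono j).2 ⟨inferInstance, inferInstance⟩
  let q : Y ⟶ Proj (CohB1.polyGrading M RZ.{u}) := j ≫ pullback.fst _ _
  have : IsAffineHom (specULiftZIsTerminal.from (Spec (CommRingCat.of A))) :=
    isAffineHom_of_isAffine _
  have : IsAffineHom q := by
    have : IsAffineHom (pullback.fst (CohB1.ProjSpace.toSpec M (ULift.{u} ℤ))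
        (specULiftZIsTerminal.from (Spec (CommRingCat.of A)))) :=
      MorphismProperty.pullback_fst _ _ inferInstance
    exact inferInstanceAs (IsAffineHom (j ≫ pullback.fst _ _))
  have hA : toProd q ((π ≫ i) ≫ g) = j := by
    apply pullback.hom_ext
    · exact pullback.lift_fst _ _ _
    · exact (pullback.lift_snd _ _ _).trans ((Category.assoc _ _ _).trans hjb.symm)
  have hcA : IsClosedImmersion (toProd q ((π ≫ i) ≫ g)) := hA ▸ hjc
  let m : CohB1.ProjSpaceOver M X ⟶ CohB1.ProjSpaceOver M (Spec (CommRingCat.of A)) :=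
    pullback.map _ _ _ _ (𝟙 _) g (𝟙 _) (by simp) (specULiftZIsTerminal.hom_ext _ _)
  have hm : toProd q (π ≫ i) ≫ m = toProd q ((π ≫ i) ≫ g) := by
    apply pullback.hom_ext
    · simp [m, toProd]
    · simp [m, toProd]
  have hsq : IsPullback m (CohB1.ProjSpaceOver.toBase M X)
      (CohB1.ProjSpaceOver.toBase M (Spec (CommRingCat.of A))) g := by
    refine IsPullback.of_right ?_ (by simp [m, CohB1.ProjSpaceOver.toBase])
      (IsPullback.of_hasPullback (CohB1.ProjSpace.toSpec M (ULift.{u} ℤ))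
        (specULiftZIsTerminal.from (Spec (CommRingCat.of A))))
    have e1 : m ≫ pullback.fst (CohB1.ProjSpace.toSpec M (ULift.{u} ℤ))
        (specULiftZIsTerminal.from (Spec (CommRingCat.of A))) =
        pullback.fst (CohB1.ProjSpace.toSpec M (ULift.{u} ℤ)) (specULiftZIsTerminal.from X) :=
      (pullback.lift_fst _ _ _).trans (Category.comp_id _)
    rw [e1, specULiftZIsTerminal.comp_from]
    exact IsPullback.of_hasPullback _ _
  have : IsSeparated m := MorphismProperty.of_isPullback hsq.flip inferInstance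
  have : IsClosedImmersion (toProd q (π ≫ i) ≫ m) := hm ▸ hcA
  have : IsClosedImmersion (toProd q (π ≫ i)) := IsClosedImmersion.of_comp _ m
  obtain ⟨d, hcoh, hfin⟩ := exists_push_twist_finite q (π ≫ i) A
  have := hcoh.1
  have hne : ((π ⁻¹ᵁ U : Y.Opens) : Set Y).Nonempty := hYd.nonempty
  obtain ⟨hsupp, hstalk⟩ := push_twist_stalk q π i U hUiso
    ((genericPoint_spec Y).mem_open_set_iff (π ⁻¹ᵁ U).isOpen |>.2 (by simpa using hne)) d
  exact ⟨_, hcoh, hsupp, hstalk, hfin⟩

end GrothLib.ProjCoh
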