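import Groth.Agent.Lib.ProjCoh.Charts
import Groth.Agent.Lib.QCoh.Killed
import Groth.Agent.Lib.OX.Stalk

/-!
# The twists `O(d)` of an integral scheme over projective space, inside the function field
-/

set_option backward.isDefEq.respectTransparency false

universe u

open AlgebraicGeometry CategoryTheory CategoryTheory.Limits HomogeneousLocalization MvPolynomial
  TopologicalSpace Opposite GrothLib.ProjPt GrothLib.ProjSpCoord

namespace GrothLib.ProjCoh

variable {n : ℕ} {Y : Scheme.{u}} [IsIntegral Y] (q : Y ⟶ Proj (CohB1.polyGrading n RZ.{u}))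
  [IsAffineHom q]

/-- The indices of the charts that meet `Y`. -/
abbrev Idx : Type := {k : Fin (n + 1) // genericPoint Y ∈ chart q k}

theorem genericPoint_mem {V : Y.Opens} {x : Y} (hx : x ∈ V) : genericPoint Y ∈ V :=
  ((genericPoint_spec Y).mem_open_set_iff V.isOpen).2 ⟨x, trivial, hx⟩

theorem exists_idx (x : Y) : ∃ k : Idx q, x ∈ chart q k.1 := by
  obtain ⟨k, hk⟩ := Opens.mem_iSup.1 ((iSup_chart q).ge (show x ∈ (⊤ : Y.Opens) from trivial))
  exact ⟨⟨k, genericPoint_mem hk⟩, hk⟩

instance : Nonempty (Idx q) := ⟨(exists_idx q (genericPoint Y)).choose⟩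

/-- The value of a coordinate in the function field. -/
noncomputable def cval (k : Idx q) (l : Fin (n + 1)) : Y.functionField :=
  Y.presheaf.germ (chart q k.1) (genericPoint Y) k.2 (coord q k.1 l)

theorem cval_self (k : Idx q) : cval q k k.1 = 1 := by
  rw [cval, coord_self, map_one]

theorem cval_eq_zero (k : Idx q) {l : Fin (n + 1)} (hl : genericPoint Y ∉ chart q l) :
    cval q k l = 0 := by
  by_contra h
  have hu : IsUnit (cval q k l) := IsUnit.mk0 (G₀ := Y.functionField) _ h
  have := (Scheme.mem_basicOpen Y (coord q k.1 l) _ k.2).2 hu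
  rw [basicOpen_coord] at this
  exact hl this.2

theorem cval_mul (k j : Idx q) (l : Fin (n + 1)) : cval q k l = cval q k j.1 * cval q j l := by
  let K : CommRingCat.{u} := Y.presheaf.stalk (genericPoint Y)
  let g : ∀ i : Idx q, Away (CohB1.polyGrading n RZ.{u}) (X i.1) →+* Γ(Spec K, ⊤) := fun i ↦
    (Scheme.ΓSpecIso K).inv.hom.comp
      ((Y.presheaf.germ (chart q i.1) (genericPoint Y) i.2).hom.comp (chartHom q i.1))
  have hg : ∀ i : Idx q, Y.fromSpecStalk (genericPoint Y) ≫ q =
      pt (CohB1.polyGrading n RZ.{u}) (X_mem_one i.1) one_pos (g i) := fun i ↦ by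
    rw [← (isAffineOpen_chart q i.1).fromSpecStalk_eq_fromSpecStalk i.2, IsAffineOpen.fromSpecStalk,
      Category.assoc, ← chartHom_spec]
    simp only [pt, g, CommRingCat.ofHom_comp, Spec.map_comp, Category.assoc, CommRingCat.ofHom_hom]
    simp
  have h := coords_change k.1 j.1 l _ (g k) (g j) (hg k) (hg j)
  have h' := congrArg (Scheme.ΓSpecIso K).hom.hom h
  simp [g] at h'
  exact h'

theorem cval_ne_zero (k j : Idx q) : cval q k j.1 ≠ 0 := fun h ↦ by
  have := cval_mul q k j k.1
  rw [cval_self, h, zero_mul] at this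
  exact one_ne_zero this

/-- A fixed reference chart. -/
noncomputable def base : Idx q := Classical.arbitrary _

/-- The coordinate `X k` in the function field, normalised at the reference chart. -/
noncomputable def tau (k : Idx q) : Y.functionField := cval q (base q) k.1

theorem tau_ne_zero (k : Idx q) : tau q k ≠ 0 := cval_ne_zero q _ _

theorem tau_mul_cval (k j : Idx q) : tau q k * cval q k j.1 = tau q j :=
  (cval_mul q (base q) k j.1).symm

/-- The constant sheaf of rational functions. -/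
noncomputable abbrev ratFun (Y : Scheme.{u}) [IsIntegral Y] : Y.Modules :=
  OX.skyObj (genericPoint Y) (ModuleCat.of (Y.presheaf.stalk (genericPoint Y))
    (Y.presheaf.stalk (genericPoint Y)))

/-- The value of a section of the constant sheaf. -/
def val {V : Y.Opens} (s : Γ(ratFun Y, V)) (hV : genericPoint Y ∈ V) : Y.functionField :=
  (s : PLift (genericPoint Y ∈ V) → Y.presheaf.stalk (genericPoint Y)) ⟨hV⟩

theorem val_ext {V : Y.Opens} {s t : Γ(ratFun Y, V)} (h : ∀ hV, val s hV = val t hV) : s = t :=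
  funext fun hV ↦ h hV.down

theorem val_map {U V : Y.Opens} (i : V ⟶ U) (s : Γ(ratFun Y, U)) (hV : genericPoint Y ∈ V) :
    val ((ratFun Y).presheaf.map i.op s) hV = val s (i.le hV) := rfl

theorem val_zero {V : Y.Opens} (hV : genericPoint Y ∈ V) : val (0 : Γ(ratFun Y, V)) hV = 0 := rfl

theorem val_add {V : Y.Opens} (s t : Γ(ratFun Y, V)) (hV : genericPoint Y ∈ V) :
    val (s + t) hV = val s hV + val t hV := rfl

theorem val_smul {V : Y.Opens} (r : Γ(Y, V)) (s : Γ(ratFun Y, V)) (hV : genericPoint Y ∈ V) :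
    val (r • s) hV = Y.presheaf.germ V _ hV r * val s hV := rfl

/-- Near `x`, the rational function is `τ_k ^ d` times a regular one. -/
def RegAt (d : ℕ) (k : Idx q) (x : Y) (f : Y.functionField) : Prop :=
  ∃ (W : Y.Opens) (hxW : x ∈ W) (a : Γ(Y, W)),
    Y.presheaf.germ W _ (genericPoint_mem hxW) a * tau q k ^ d = f

/-- The rational functions that are `τ_k ^ d` times regular ones on each chart. -/
noncomputable def twistData (d : ℕ) : QCoh.SubData (ratFun Y) where
  sec V :=
    { carrier := {s | ∀ (k : Idx q) (x : Y) (hx : x ∈ V), x ∈ chart q k.1 →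
        RegAt q d k x (val s (genericPoint_mem hx))}
      add_mem' := fun hs ht k x hx hk ↦ by
        obtain ⟨W, hW, a, ha⟩ := hs k x hx hk
        obtain ⟨W', hW', b, hb⟩ := ht k x hx hk
        refine ⟨W ⊓ W', ⟨hW, hW'⟩, Y.presheaf.map (homOfLE inf_le_left).op a +
          Y.presheaf.map (homOfLE inf_le_right).op b, ?_⟩
        rw [map_add, TopCat.Presheaf.germ_res_apply, TopCat.Presheaf.germ_res_apply, add_mul, ha, hb,
          val_add]
      zero_mem' := fun k x hx hk ↦ ⟨V, hx, 0, by rw [map_zero, zero_mul, val_zero]⟩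
      smul_mem' := fun r s hs k x hx hk ↦ by
        obtain ⟨W, hW, a, ha⟩ := hs k x hx hk
        refine ⟨W ⊓ V, ⟨hW, hx⟩, Y.presheaf.map (homOfLE inf_le_right).op r *
          Y.presheaf.map (homOfLE inf_le_left).op a, ?_⟩
        rw [map_mul, TopCat.Presheaf.germ_res_apply, TopCat.Presheaf.germ_res_apply, mul_assoc, ha,
          val_smul] }
  map_mem i s hs k x hx hk := hs k x (i.le hx) hk
  locality {U} s h k x hx hk := by
    obtain ⟨V, i, hxV, hV⟩ := h x hx
    exact hV k x hxV hk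

/-- The module `O(d)`. -/
noncomputable abbrev twist (d : ℕ) : Y.Modules := (twistData q d).obj

/-- The rational function of a section of `O(d)`. -/
noncomputable def tval {d : ℕ} {V : Y.Opens} (s : Γ(twist q d, V)) (hV : genericPoint Y ∈ V) :
    Y.functionField := val ((twistData q d).ι.app V s) hV

theorem tval_ext {d : ℕ} {V : Y.Opens} {s t : Γ(twist q d, V)}
    (h : ∀ hV, tval q s hV = tval q t hV) : s = t :=
  (twistData q d).ι_app_injective V (val_ext h)

theorem tval_map {d : ℕ} {U V : Y.Opens} (i : V ⟶ U) (s : Γ(twist q d, U))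
    (hV : genericPoint Y ∈ V) :
    tval q ((twist q d).presheaf.map i.op s) hV = tval q s (i.le hV) := rfl

/-- On an open inside a chart, sections of `O(d)` are `τ_k ^ d` times regular functions. -/
theorem exists_tval_eq {d : ℕ} {V : Y.Opens} (hη : genericPoint Y ∈ V) (k : Idx q)
    (hk : V ≤ chart q k.1) (s : Γ(twist q d, V)) :
    ∃ a : Γ(Y, V), Y.presheaf.germ V _ hη a * tau q k ^ d = tval q s hη := by
  have hs := (twistData q d).ι_app_mem s
  choose W hxW a ha using fun x : V ↦ hs k x.1 x.2 (hk x.2)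
  let U : V → Y.Opens := fun x ↦ W x ⊓ V
  let sf : ∀ x : V, Γ(Y, U x) := fun x ↦ Y.presheaf.map (homOfLE inf_le_left).op (a x)
  have hc : TopCat.Presheaf.IsCompatible (C := CommRingCat.{u}) Y.presheaf U sf := by
    intro x y
    have hη' : genericPoint Y ∈ U x ⊓ U y :=
      ⟨⟨genericPoint_mem (hxW x), hη⟩, ⟨genericPoint_mem (hxW y), hη⟩⟩
    have : Nonempty (U x ⊓ U y : Y.Opens) := ⟨⟨_, hη'⟩⟩
    refine germ_injective_of_isIntegral Y (genericPoint Y) hη' ?_
    have e : ∀ z : V, Y.presheaf.germ (U z) _ ⟨genericPoint_mem (hxW z), hη⟩ (sf z) * tau q k ^ d =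
        tval q s hη := fun z ↦
      (congrArg (· * tau q k ^ d) (TopCat.Presheaf.germ_res_apply _ _ _ _ _)).trans (ha z)
    exact (TopCat.Presheaf.germ_res_apply Y.presheaf _ _ hη' (sf x)).trans
      ((mul_right_cancel₀ (pow_ne_zero d (tau_ne_zero q k)) ((e x).trans (e y).symm)).trans
        (TopCat.Presheaf.germ_res_apply Y.presheaf _ _ hη' (sf y)).symm)
  have hsup : iSup U = V := le_antisymm (iSup_le fun x ↦ inf_le_right) fun x hx ↦
    Opens.mem_iSup.2 ⟨⟨x, hx⟩, hxW ⟨x, hx⟩, hx⟩
  obtain ⟨g, hg, -⟩ := Y.sheaf.existsUnique_gluing U sf hc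
  refine ⟨Y.presheaf.map (homOfLE hsup.ge).op g, ?_⟩
  have hx₀ : genericPoint Y ∈ U ⟨_, hη⟩ := ⟨hxW ⟨_, hη⟩, hη⟩
  rw [TopCat.Presheaf.germ_res_apply,
    ← TopCat.Presheaf.germ_res_apply Y.presheaf (homOfLE (le_iSup U ⟨_, hη⟩)) (genericPoint Y) hx₀ g,
    show Y.presheaf.map (homOfLE (le_iSup U ⟨_, hη⟩)).op g = sf ⟨_, hη⟩ from hg ⟨_, hη⟩]
  exact (congrArg (· * tau q k ^ d)
    (TopCat.Presheaf.germ_res_apply Y.presheaf _ _ hx₀ (a ⟨_, hη⟩))).trans (ha ⟨_, hη⟩)

/-- A rational function regular on one chart around each point gives a section. -/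
theorem exists_section {d : ℕ} {V : Y.Opens} (f : Y.functionField) (k : Idx q)
    (hk : V ≤ chart q k.1) (hη : genericPoint Y ∈ V) (a : Γ(Y, V))
    (ha : Y.presheaf.germ V _ hη a * tau q k ^ d = f) :
    ∃ s : Γ(twist q d, V), tval q s hη = f := by
  refine ⟨(twistData q d).lift (fun _ ↦ f) fun j x hx hj ↦ ?_, rfl⟩
  have hbo : Y.basicOpen (coord q j.1 k.1) = chart q j.1 ⊓ chart q k.1 := basicOpen_coord q _ _
  let W : Y.Opens := V ⊓ Y.basicOpen (coord q j.1 k.1)
  have hxW : x ∈ W := ⟨hx, hbo.ge ⟨hj, hk hx⟩⟩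
  let r := Y.presheaf.map (homOfLE (inf_le_right.trans (Y.basicOpen_le _) : W ≤ chart q j.1)).op
    (coord q j.1 k.1)
  refine ⟨W, hxW, Y.presheaf.map (homOfLE inf_le_left).op a * r ^ d, ?_⟩
  change _ = f
  have hr : Y.presheaf.germ W _ (genericPoint_mem hxW) r = cval q j k.1 :=
    TopCat.Presheaf.germ_res_apply _ _ _ _ _
  rw [map_mul, map_pow, hr, TopCat.Presheaf.germ_res_apply, mul_assoc, ← mul_pow,
    mul_comm (cval q j k.1), tau_mul_cval]
  exact ha

theorem twist_isQuasicoherent (d : ℕ) : (twist q d).IsQuasicoherent := by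
  refine QCoh.isQuasicoherent_of_smulLift_of_smulSep _ (fun k : ULift.{u} (Idx q) ↦ chart q k.down.1) ?_
    (fun k ↦ isAffineOpen_chart q k.down.1) fun ⟨k⟩ g ↦ ?_
  · refine top_le_iff.1 fun x _ ↦ ?_
    obtain ⟨k, hk⟩ := exists_idx q x
    exact Opens.mem_iSup.2 ⟨⟨k⟩, hk⟩
  by_cases hg : genericPoint Y ∈ Y.basicOpen g
  · refine ⟨fun s ↦ ?_, fun t ht ↦ ⟨0, ?_⟩⟩
    · obtain ⟨a, ha⟩ := exists_tval_eq q hg k (Y.basicOpen_le g) s
      have := (isAffineOpen_chart q k.1).isLocalization_basicOpen g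
      obtain ⟨a', ⟨_, m, rfl⟩, e⟩ := IsLocalization.exists_mk'_eq (Submonoid.powers g) a
      obtain ⟨t, ht⟩ := exists_section q (d := d) _ k le_rfl k.2 a' rfl
      refine ⟨m, t, tval_ext q fun hV ↦ ?_⟩
      have hsm : tval q ((Y.presheaf.map (homOfLE (Y.basicOpen_le g)).op g) ^ m • s) hV =
          Y.presheaf.germ _ _ hV ((Y.presheaf.map (homOfLE (Y.basicOpen_le g)).op g) ^ m) *
            tval q s hV := rfl
      rw [tval_map, hsm, ← ha, ← mul_assoc, ← map_mul,
        show tval q t ((homOfLE (Y.basicOpen_le g)).le hV) = _ from ht]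
      congr 1
      rw [← TopCat.Presheaf.germ_res_apply Y.presheaf (homOfLE (Y.basicOpen_le g)) _ hV a', ← e,
        ← map_pow]
      congr 1
      exact (IsLocalization.mk'_spec' (M := Submonoid.powers g) (Γ(Y, Y.basicOpen g)) a' ⟨g ^ m, m, rfl⟩).symm
    · rw [pow_zero, one_smul]
      exact tval_ext q fun hV ↦ (tval_map q (homOfLE (Y.basicOpen_le g)) t hg).symm.trans
        (congrArg (tval q · hg) ht)
  · refine ⟨fun s ↦ ⟨0, 0, tval_ext q fun hV ↦ absurd hV hg⟩, fun t _ ↦ ⟨1, ?_⟩⟩
    have h0 : g = 0 := by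
      rw [← basicOpen_eq_bot_iff]
      exact le_antisymm (fun x hx ↦ absurd (genericPoint_mem hx) hg) bot_le
    rw [h0, zero_pow one_ne_zero, zero_smul]

end GrothLib.ProjCoh
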