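import Groth.Agent.Lib.ProjSp.Coords
import Groth.Agent.Lib.ProjSp.Segre
import Mathlib.AlgebraicGeometry.Morphisms.ClosedImmersion
import Mathlib.AlgebraicGeometry.PullbackCarrier
import Mathlib.AlgebraicGeometry.FunctionField

/-!
# The standard charts of a morphism to projective space
-/

set_option backward.isDefEq.respectTransparency false

universe u

open AlgebraicGeometry CategoryTheory CategoryTheory.Limits HomogeneousLocalization MvPolynomial
  TopologicalSpace GrothLib.ProjPt GrothLib.ProjSpCoord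

namespace GrothLib.ProjCoh

variable {n : ℕ} {Y : Scheme.{u}} (q : Y ⟶ Proj (CohB1.polyGrading n RZ.{u}))

/-- The chart `D₊(X k)`. -/
noncomputable abbrev dPlus (n : ℕ) (k : Fin (n + 1)) : (Proj (CohB1.polyGrading n RZ.{u})).Opens :=
  Proj.basicOpen (CohB1.polyGrading n RZ.{u}) (X k)

theorem isAffineOpen_dPlus (k : Fin (n + 1)) : IsAffineOpen (dPlus.{u} n k) :=
  Proj.isAffineOpen_basicOpen _ _ (X_mem_one k) one_pos

/-- The preimage of a chart. -/
noncomputable abbrev chart (k : Fin (n + 1)) : Y.Opens := q ⁻¹ᵁ dPlus n k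

theorem iSup_chart : ⨆ k, chart q k = ⊤ := by
  rw [← Scheme.Hom.preimage_iSup]
  rw [show ⨆ k, dPlus.{u} n k = ⊤ from ProjSpSegre.iSup_basicOpen_X n]
  rfl

/-- On an open where `q` lands in the chart, the morphism is given by a ring homomorphism. -/
theorem exists_chartHom {V : Y.Opens} (hV : IsAffineOpen V) (k : Fin (n + 1)) (hk : V ≤ chart q k) :
    ∃ g : Away (CohB1.polyGrading n RZ.{u}) (X k) →+* Γ(Y, V),
      Spec.map (CommRingCat.ofHom g) ≫ Proj.awayι _ (X k) (X_mem_one k) one_pos =
        hV.fromSpec ≫ q := by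
  have hr : Set.range (hV.fromSpec ≫ q) ⊆
      Set.range (Proj.awayι (CohB1.polyGrading n RZ.{u}) (X k) (X_mem_one k) one_pos) := by
    rintro _ ⟨t, rfl⟩
    have ht : hV.fromSpec t ∈ chart q k := hk (hV.range_fromSpec.le ⟨t, rfl⟩)
    rw [chart, dPlus, ← Proj.opensRange_awayι _ _ (X_mem_one k) one_pos] at ht
    exact ht
  refine ⟨(Spec.preimage (IsOpenImmersion.lift _ _ hr)).hom, ?_⟩
  rw [CommRingCat.ofHom_hom, Spec.map_preimage, IsOpenImmersion.lift_fac]

variable [IsAffineHom q]

theorem isAffineOpen_chart (k : Fin (n + 1)) : IsAffineOpen (chart q k) :=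
  (isAffineOpen_dPlus k).preimage q

/-- The ring homomorphism of a chart. -/
noncomputable def chartHom (k : Fin (n + 1)) :
    Away (CohB1.polyGrading n RZ.{u}) (X k) →+* Γ(Y, chart q k) :=
  (exists_chartHom q (isAffineOpen_chart q k) k le_rfl).choose

theorem chartHom_spec (k : Fin (n + 1)) :
    Spec.map (CommRingCat.ofHom (chartHom q k)) ≫ Proj.awayι _ (X k) (X_mem_one k) one_pos =
      (isAffineOpen_chart q k).fromSpec ≫ q :=
  (exists_chartHom q (isAffineOpen_chart q k) k le_rfl).choose_spec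

/-- The coordinate `X l / X k` on the chart `k`. -/
noncomputable def coord (k l : Fin (n + 1)) : Γ(Y, chart q k) := chartHom q k (ratio k l)

theorem coord_self (k : Fin (n + 1)) : coord q k k = 1 := ratio_self_map _

/-- A chart morphism on a smaller affine open is the restriction. -/
theorem chartHom_res {V : Y.Opens} (hV : IsAffineOpen V) {k : Fin (n + 1)} (hk : V ≤ chart q k)
    {g : Away (CohB1.polyGrading n RZ.{u}) (X k) →+* Γ(Y, V)}
    (hg : Spec.map (CommRingCat.ofHom g) ≫ Proj.awayι _ (X k) (X_mem_one k) one_pos =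
      hV.fromSpec ≫ q) :
    g = (Y.presheaf.map (homOfLE hk).op).hom.comp (chartHom q k) := by
  have h : Spec.map (CommRingCat.ofHom g) =
      Spec.map (CommRingCat.ofHom ((Y.presheaf.map (homOfLE hk).op).hom.comp (chartHom q k))) := by
    rw [← cancel_mono (Proj.awayι (CohB1.polyGrading n RZ.{u}) (X k) (X_mem_one k) one_pos), hg,
      CommRingCat.ofHom_comp, Spec.map_comp, Category.assoc, chartHom_spec, ← Category.assoc]
    congr 1
    exact ((isAffineOpen_chart q k).map_fromSpec hV (homOfLE hk).op).symm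
  exact congrArg CommRingCat.Hom.hom (Spec.map_injective h)

theorem basicOpen_coord (k l : Fin (n + 1)) :
    Y.basicOpen (coord q k l) = chart q k ⊓ chart q l := by
  have hk := isAffineOpen_chart q k
  refine le_antisymm (le_inf (Y.basicOpen_le _) ?_) ?_
  all_goals
    have key : hk.fromSpec ⁻¹ᵁ chart q l = PrimeSpectrum.basicOpen (coord q k l) := by
      rw [show chart q l = q ⁻¹ᵁ dPlus n l from rfl, ← Scheme.Hom.comp_preimage, ← chartHom_spec, Scheme.Hom.comp_preimage]
      have h := ProjSpCoord.preimage_basicOpen k l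
        (Proj.awayι (CohB1.polyGrading n RZ.{u}) (X k) (X_mem_one k) one_pos)
        (Scheme.ΓSpecIso (CommRingCat.of (Away (CohB1.polyGrading n RZ.{u}) (X k)))).inv.hom
        (by simp [pt])
      rw [show Proj.awayι (CohB1.polyGrading n RZ.{u}) (X k) (X_mem_one k) one_pos ⁻¹ᵁ dPlus n l = _
        from h, basicOpen_eq_of_affine]
      rfl
  · intro y hy
    obtain ⟨p, rfl⟩ : y ∈ Set.range hk.fromSpec := hk.range_fromSpec.symm ▸ Y.basicOpen_le _ hy
    have hp : p ∈ hk.fromSpec ⁻¹ᵁ Y.basicOpen (coord q k l) := hy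
    rw [hk.fromSpec_preimage_basicOpen] at hp
    exact key.ge hp
  · rintro y ⟨hy, hyl⟩
    obtain ⟨p, rfl⟩ : y ∈ Set.range hk.fromSpec := hk.range_fromSpec.symm ▸ hy
    have hp : p ∈ PrimeSpectrum.basicOpen (coord q k l) := key.le hyl
    rw [← hk.fromSpec_preimage_basicOpen] at hp
    exact hp

section Generation

variable {X : Scheme.{u}} (h : Y ⟶ X)

/-- The map to `P^n_ℤ × X`. -/
noncomputable def toProd : Y ⟶ CohB1.ProjSpaceOver n X :=
  pullback.lift (show Y ⟶ CohB1.ProjSpace n (ULift.{u} ℤ) from q) h (specULiftZIsTerminal.hom_ext _ _)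

/-- Over an affine open of the target, the sections of a chart are generated by the base and the
coordinates. -/
theorem closure_eq_top [IsClosedImmersion (toProd q h)] {W : X.Opens} (hW : IsAffineOpen W)
    (k : Fin (n + 1)) {V : Y.Opens} (hV : IsAffineOpen V) (hVeq : V = chart q k ⊓ h ⁻¹ᵁ W) :
    Subring.closure (Set.range (h.appLE W V (hVeq.le.trans inf_le_right)).hom ∪
      Set.range fun l ↦ (Y.presheaf.map (homOfLE (hVeq.le.trans inf_le_left)).op).hom (coord q k l))
      = ⊤ := by
  set R0 := Subring.closure (Set.range (h.appLE W V (hVeq.le.trans inf_le_right)).hom ∪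
      Set.range fun l ↦ (Y.presheaf.map (homOfLE (hVeq.le.trans inf_le_left)).op).hom (coord q k l))
  let res := (Y.presheaf.map (homOfLE (hVeq.le.trans inf_le_left)).op).hom.comp (chartHom q k)
  have hr : ∀ l, res (ratio k l) ∈ R0 := fun l ↦ Subring.subset_closure (Or.inr ⟨l, rfl⟩)
  let r' : Fin (n + 1) → R0 := fun l ↦ ⟨res (ratio k l), hr l⟩
  have hu : IsUnit (evalTuple r' (MvPolynomial.X k)) := by
    rw [evalTuple_X, show r' k = 1 from Subtype.ext (ratio_self_map res)]
    exact isUnit_one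
  let g0 := evalAway (CohB1.polyGrading n RZ.{u}) (evalTuple r') (MvPolynomial.X k) hu
  have hg0 : R0.subtype.comp g0 = res := by
    refine awayHom_ext fun l ↦ ?_
    have e := evalAway_ratio (evalTuple r') k l hu
    rw [evalTuple_X, evalTuple_X, show r' k = 1 from Subtype.ext (ratio_self_map res), mul_one] at e
    exact congrArg R0.subtype e
  let w0 : Γ(X, W) →+* R0 := (h.appLE W V (hVeq.le.trans inf_le_right)).hom.codRestrict R0
    fun a ↦ Subring.subset_closure (Or.inl ⟨a, rfl⟩)
  let ι : pullback (Proj.awayι (CohB1.polyGrading n RZ.{u}) (MvPolynomial.X k) (X_mem_one k) one_pos ≫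
      CohB1.ProjSpace.toSpec n RZ.{u}) (hW.fromSpec ≫ specULiftZIsTerminal.from X) ⟶
      CohB1.ProjSpaceOver n X :=
    pullback.map _ _ _ _ (Proj.awayι _ _ (X_mem_one k) one_pos) hW.fromSpec (𝟙 _) (Category.comp_id _) (Category.comp_id _)
  let k0 : Spec (CommRingCat.of R0) ⟶ pullback
      (Proj.awayι (CohB1.polyGrading n RZ.{u}) (MvPolynomial.X k) (X_mem_one k) one_pos ≫
        CohB1.ProjSpace.toSpec n RZ.{u}) (hW.fromSpec ≫ specULiftZIsTerminal.from X) :=
    pullback.lift (Spec.map (CommRingCat.ofHom g0)) (Spec.map (CommRingCat.ofHom w0))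
      (specULiftZIsTerminal.hom_ext _ _)
  let s : Spec Γ(Y, V) ⟶ Spec (CommRingCat.of R0) :=
    Spec.map (CommRingCat.ofHom R0.subtype)
  have hsk : (s ≫ k0) ≫ ι = hV.fromSpec ≫ toProd q h := by
    apply pullback.hom_ext
    · simp only [ι, k0, toProd, Category.assoc, pullback.lift_fst, pullback.lift_fst_assoc, s]
      rw [← Spec.map_comp_assoc, ← CommRingCat.ofHom_comp, hg0]
      simp only [res, CommRingCat.ofHom_comp, Spec.map_comp, Category.assoc]
      rw [chartHom_spec, ← Category.assoc]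
      congr 1
      exact (isAffineOpen_chart q k).map_fromSpec hV _
    · simp only [ι, k0, toProd, Category.assoc, pullback.lift_snd, pullback.lift_snd_assoc, s]
      rw [← Spec.map_comp_assoc, ← CommRingCat.ofHom_comp]
      exact IsAffineOpen.SpecMap_appLE_fromSpec h hW hV (hVeq.le.trans inf_le_right)
  have hpre : toProd q h ⁻¹ᵁ ι.opensRange = hV.fromSpec.opensRange := by
    apply Opens.ext
    change (toProd q h) ⁻¹' Set.range ι = Set.range hV.fromSpec
    rw [hV.range_fromSpec, hVeq]
    erw [Scheme.Pullback.range_map]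
    rw [hW.range_fromSpec, ← Scheme.Hom.coe_opensRange, Proj.opensRange_awayι]
    ext y
    simp only [Set.preimage_inter, Set.mem_inter_iff, Set.mem_preimage, Opens.coe_inf,
      Scheme.Hom.coe_preimage, SetLike.mem_coe]
    have e1 : toProd q h ≫ pullback.fst _ _ = q := pullback.lift_fst _ _ _
    have e2 : toProd q h ≫ pullback.snd _ _ = h := pullback.lift_snd _ _ _
    have f1 : q y = (pullback.fst (CohB1.ProjSpace.toSpec n (ULift.{u} ℤ)) (specULiftZIsTerminal.from X)) ((toProd q h) y) := (congrArg (fun φ => φ.base y) e1).symm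
    have f2 : h y = (pullback.snd (CohB1.ProjSpace.toSpec n (ULift.{u} ℤ)) (specULiftZIsTerminal.from X)) ((toProd q h) y) := (congrArg (fun φ => φ.base y) e2).symm
    rw [f1, f2]
  have hk : IsClosedImmersion (s ≫ k0) :=
    MorphismProperty.of_isPullback (P := @IsClosedImmersion)
      (IsOpenImmersion.isPullback (s ≫ k0) hV.fromSpec ι (toProd q h) hsk.symm hpre).flip ‹_›
  have : IsClosedImmersion s := IsClosedImmersion.of_comp s k0
  have hs : Function.Surjective R0.subtype := by
    have := (HasAffineProperty.iff_of_isAffine (P := @IsClosedImmersion) (f := s)).1 ‹_›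
    have h2 := this.2
    intro a
    obtain ⟨b, hb⟩ := h2 ((Scheme.ΓSpecIso Γ(Y, V)).inv a)
    refine ⟨(Scheme.ΓSpecIso (CommRingCat.of R0)).hom b, ?_⟩
    apply (Scheme.ΓSpecIso Γ(Y, V)).symm.commRingCatIsoToRingEquiv.injective
    refine Eq.trans ?_ hb
    have hn := congrArg (fun φ => φ.hom b) (Scheme.ΓSpecIso_naturality (CommRingCat.ofHom R0.subtype))
    exact (congrArg (Scheme.ΓSpecIso Γ(Y, V)).inv hn.symm).trans
      (Iso.hom_inv_id_apply (Scheme.ΓSpecIso Γ(Y, V)) _)
  exact eq_top_iff.2 fun a _ ↦ let ⟨⟨_, hb⟩, e⟩ := hs a; e ▸ hb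

end Generation

end GrothLib.ProjCoh
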