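import Groth.Agent.Lib.ProjCoh.Twist
import Groth.Agent.Lib.GrCech.Core
import Groth.Agent.Lib.Cohom.CechQCoh
import Mathlib.RingTheory.MvPolynomial.Homogeneous

/-!
# Vanishing and finiteness for large twists
-/

set_option backward.isDefEq.respectTransparency false
set_option linter.unusedSectionVars false

universe u

open AlgebraicGeometry CategoryTheory CategoryTheory.Limits HomogeneousLocalization
  TopologicalSpace Opposite GrothLib.ProjPt GrothLib.ProjSpCoord Abelian

namespace GrothLib.ProjCoh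

/-- Evaluating a homogeneous polynomial at scaled values. -/
theorem eval₂_scale {R T σ : Type*} [CommRing R] [CommRing T] (f : R →+* T) (c : σ → T) (z : T)
    {m : ℕ} {p : MvPolynomial σ R} (hp : p.IsHomogeneous m) :
    MvPolynomial.eval₂ f (fun i ↦ c i * z) p = MvPolynomial.eval₂ f c p * z ^ m := by
  rw [MvPolynomial.eval₂_eq, MvPolynomial.eval₂_eq, Finset.sum_mul]
  refine Finset.sum_congr rfl fun d hd ↦ ?_
  simp only [mul_pow, Finset.prod_mul_distrib, Finset.prod_pow_eq_pow_sum]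
  rw [show ∑ i ∈ d.support, d i = m from hp.degree_eq_sum_deg_support hd |>.symm, mul_assoc]

variable {n : ℕ} {Y : Scheme.{u}} [IsIntegral Y] (q : Y ⟶ Proj (CohB1.polyGrading n RZ.{u}))
  [IsAffineHom q] {X : Scheme.{u}} (h : Y ⟶ X) [IsClosedImmersion (toProd q h)]

/-- The index type of the Čech complex. -/
abbrev CIdx : Type u := ULift.{u} (Idx q)

variable (W : X.Opens)

/-- The charts over `W`. -/
noncomputable abbrev over (k : CIdx q) : Y.Opens := chart q k.down.1 ⊓ h ⁻¹ᵁ W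

omit [IsIntegral Y] in
theorem isAffineOpen_chart_inf {W : X.Opens} (hW : IsAffineOpen W) (k : Fin (n + 1)) :
    IsAffineOpen (chart q k ⊓ h ⁻¹ᵁ W) := by
  let ι : pullback (Proj.awayι (CohB1.polyGrading n RZ.{u}) (MvPolynomial.X k) (X_mem_one k) one_pos ≫
      CohB1.ProjSpace.toSpec n RZ.{u}) (hW.fromSpec ≫ specULiftZIsTerminal.from X) ⟶
      CohB1.ProjSpaceOver n X :=
    pullback.map _ _ _ _ (Proj.awayι _ _ (X_mem_one k) one_pos) hW.fromSpec (𝟙 _)
      (Category.comp_id _) (Category.comp_id _)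
  have h1 := (isAffineOpen_opensRange ι).preimage (toProd q h)
  convert h1 using 1
  apply Opens.ext
  change _ = (toProd q h) ⁻¹' Set.range ι
  erw [Scheme.Pullback.range_map]
  rw [hW.range_fromSpec, ← Scheme.Hom.coe_opensRange, Proj.opensRange_awayι]
  ext y
  simp only [Set.preimage_inter, Set.mem_inter_iff, Set.mem_preimage, Opens.coe_inf,
    Scheme.Hom.coe_preimage, SetLike.mem_coe]
  have e1 : toProd q h ≫ pullback.fst _ _ = q := pullback.lift_fst _ _ _
  have e2 : toProd q h ≫ pullback.snd _ _ = h := pullback.lift_snd _ _ _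
  have f1 : q y = (pullback.fst (CohB1.ProjSpace.toSpec n (ULift.{u} ℤ))
      (specULiftZIsTerminal.from X)) ((toProd q h) y) := (congrArg (fun φ => φ.base y) e1).symm
  have f2 : h y = (pullback.snd (CohB1.ProjSpace.toSpec n (ULift.{u} ℤ))
      (specULiftZIsTerminal.from X)) ((toProd q h) y) := (congrArg (fun φ => φ.base y) e2).symm
  rw [f1, f2]

section Alg

variable (hη : genericPoint Y ∈ h ⁻¹ᵁ W)

/-- The structure map of the base into the function field. -/
noncomputable def baseMap : Γ(X, W) →+* Y.functionField :=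
  (Y.presheaf.germ (h ⁻¹ᵁ W) (genericPoint Y) hη).hom.comp (h.app W).hom

/-- Evaluation at the coordinates. -/
noncomputable def evK : MvPolynomial (CIdx q) Γ(X, W) →+* Y.functionField :=
  MvPolynomial.eval₂Hom (baseMap h W hη) fun k ↦ tau q k.down

/-- The map to the section ring. -/
noncomputable def toGraded : MvPolynomial (CIdx q) Γ(X, W) →+* Polynomial Y.functionField :=
  MvPolynomial.eval₂Hom (Polynomial.C.comp (baseMap h W hη))
    fun k ↦ Polynomial.C (tau q k.down) * Polynomial.X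

theorem toGraded_of_isHomogeneous {m : ℕ} {b : MvPolynomial (CIdx q) Γ(X, W)}
    (hb : b.IsHomogeneous m) :
    toGraded q h W hη b = Polynomial.C (evK q h W hη b) * Polynomial.X ^ m := by
  rw [toGraded, MvPolynomial.coe_eval₂Hom, eval₂_scale _ _ _ hb]
  rw [evK, MvPolynomial.coe_eval₂Hom, MvPolynomial.eval₂_comp_left]
  rfl

/-- The relations. -/
noncomputable def rel : Ideal (MvPolynomial (CIdx q) Γ(X, W)) := RingHom.ker (toGraded q h W hη)

theorem mem_rel_iff {m : ℕ} {b : MvPolynomial (CIdx q) Γ(X, W)} (hb : b.IsHomogeneous m) :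
    b ∈ rel q h W hη ↔ evK q h W hη b = 0 := by
  rw [rel, RingHom.mem_ker, toGraded_of_isHomogeneous q h W hη hb]
  simp [mul_eq_zero, Polynomial.X_ne_zero]

theorem homog_rel : GrCech.Homog (rel q h W hη) := by
  intro f hf e
  rw [mem_rel_iff q h W hη (MvPolynomial.homogeneousComponent_isHomogeneous e f)]
  have := congrArg (fun p ↦ Polynomial.coeff p e) (RingHom.mem_ker.1 hf)
  rw [← MvPolynomial.sum_homogeneousComponent f, map_sum, Polynomial.finset_sum_coeff] at this
  simp_rw [toGraded_of_isHomogeneous q h W hη (MvPolynomial.homogeneousComponent_isHomogeneous _ f),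
    Polynomial.coeff_C_mul_X_pow] at this
  rw [Finset.sum_ite_eq] at this
  by_cases he : e ∈ Finset.range (f.totalDegree + 1)
  · simpa [he] using this
  · rw [MvPolynomial.homogeneousComponent_eq_zero e f (by simpa using he), map_zero]

theorem evK_mon_ne_zero {p : ℕ} (t : Fin p → CIdx q) :
    evK q h W hη (GrCech.mon t) ≠ 0 := by
  simp only [GrCech.mon, map_prod, evK, MvPolynomial.eval₂Hom_X']
  exact Finset.prod_ne_zero_iff.2 fun k _ ↦ tau_ne_zero q _

theorem evK_X (k : CIdx q) : evK q h W hη (MvPolynomial.X k) = tau q k.down := by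
  simp [evK]

theorem evK_C (b : Γ(X, W)) : evK q h W hη (MvPolynomial.C b) = baseMap h W hη b := by
  simp [evK]

/-- Regular functions on a chart over `W` are fractions with a power of the coordinate below. -/
theorem exists_numerator (hW : IsAffineOpen W) (k : CIdx q) {V : Y.Opens} (hV : IsAffineOpen V)
    (hVeq : V = chart q k.down.1 ⊓ h ⁻¹ᵁ W) (hηV : genericPoint Y ∈ V) (a : Γ(Y, V)) :
    ∃ (m : ℕ) (b : MvPolynomial (CIdx q) Γ(X, W)), b.IsHomogeneous m ∧
      Y.presheaf.germ V _ hηV a * tau q k.down ^ m = evK q h W hη b := by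
  have ha : a ∈ Subring.closure (Set.range (h.appLE W V (hVeq.le.trans inf_le_right)).hom ∪
      Set.range fun l ↦ (Y.presheaf.map (homOfLE (hVeq.le.trans inf_le_left)).op).hom
        (coord q k.down.1 l)) := by
    rw [closure_eq_top q h hW k.down.1 hV hVeq]; trivial
  induction ha using Subring.closure_induction with
  | mem x hx =>
    rcases hx with ⟨b, rfl⟩ | ⟨l, rfl⟩
    · refine ⟨0, MvPolynomial.C b, MvPolynomial.isHomogeneous_C _ _, ?_⟩
      rw [pow_zero, mul_one, evK_C]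
      exact TopCat.Presheaf.germ_res_apply Y.presheaf _ _ _ _
    · have e : Y.presheaf.germ V _ hηV ((Y.presheaf.map (homOfLE (hVeq.le.trans inf_le_left)).op).hom
          (coord q k.down.1 l)) = cval q k.down l := TopCat.Presheaf.germ_res_apply _ _ _ _ _
      by_cases hl : genericPoint Y ∈ chart q l
      · refine ⟨1, MvPolynomial.X (ULift.up ⟨l, hl⟩), MvPolynomial.isHomogeneous_X _ _, ?_⟩
        rw [e, pow_one, mul_comm, evK_X]
        exact tau_mul_cval q k.down ⟨l, hl⟩
      · exact ⟨0, 0, MvPolynomial.isHomogeneous_zero _ _ _, by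
          rw [e, cval_eq_zero q k.down hl, zero_mul, map_zero]⟩
  | zero => exact ⟨0, 0, MvPolynomial.isHomogeneous_zero _ _ _, by simp⟩
  | one => exact ⟨0, 1, MvPolynomial.isHomogeneous_one _ _, by simp⟩
  | add x y _ _ hx hy =>
    obtain ⟨m, b, hb, e⟩ := hx
    obtain ⟨m', b', hb', e'⟩ := hy
    refine ⟨m + m', b * MvPolynomial.X k ^ m' + MvPolynomial.X k ^ m * b',
      (hb.mul (MvPolynomial.isHomogeneous_X_pow k m')).add
        ((MvPolynomial.isHomogeneous_X_pow k m).mul hb'), ?_⟩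
    simp only [map_add, map_mul, map_pow, ← e, ← e', evK_X]
    ring
  | neg x _ hx =>
    obtain ⟨m, b, hb, e⟩ := hx
    exact ⟨m, -b, hb.neg, by rw [map_neg, map_neg, neg_mul, e]⟩
  | mul x y _ _ hx hy =>
    obtain ⟨m, b, hb, e⟩ := hx
    obtain ⟨m', b', hb', e'⟩ := hy
    refine ⟨m + m', b * b', hb.mul hb', ?_⟩
    simp only [map_mul, ← e, ← e']
    ring

end Alg

section Cech

variable {W}

theorem iInf_over_eq {p : ℕ} (t : Fin (p + 1) → CIdx q) :
    ⨅ k, over q h W (t k) = Y.basicOpen (Y.presheaf.map (homOfLE inf_le_left :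
      over q h W (t 0) ⟶ chart q (t 0).down.1).op (∏ k, coord q (t 0).down.1 (t k).down.1)) := by
  rw [Scheme.basicOpen_res]
  apply Opens.ext
  ext y
  have hu : ∀ (hy : y ∈ chart q (t 0).down.1),
      y ∈ Y.basicOpen (∏ k, coord q (t 0).down.1 (t k).down.1) ↔
        ∀ k, y ∈ Y.basicOpen (coord q (t 0).down.1 (t k).down.1) := fun hy ↦ by
    simp only [Scheme.mem_basicOpen _ _ _ hy, map_prod, IsUnit.prod_univ_iff]
  simp only [Opens.coe_iInf, Set.mem_iInter, SetLike.mem_coe, Opens.coe_inf, Set.mem_inter_iff]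
  constructor
  · intro hy
    refine ⟨hy 0, (hu (hy 0).1).2 fun k ↦ ?_⟩
    rw [basicOpen_coord]
    exact ⟨(hy 0).1, (hy k).1⟩
  · rintro ⟨hy0, hy⟩ k
    have := (hu hy0.1).1 hy k
    rw [basicOpen_coord] at this
    exact ⟨this.2, hy0.2⟩

theorem isAffineOpen_iInf_over (hW : IsAffineOpen W) {p : ℕ} (t : Fin (p + 1) → CIdx q) :
    IsAffineOpen (⨅ k, over q h W (t k)) := by
  rw [iInf_over_eq]
  exact (isAffineOpen_chart_inf q h hW _).basicOpen _

theorem genericPoint_mem_iInf (hη : genericPoint Y ∈ h ⁻¹ᵁ W) {p : ℕ} (t : Fin (p + 1) → CIdx q) :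
    genericPoint Y ∈ ⨅ k, over q h W (t k) := by
  rw [← SetLike.mem_coe, Opens.coe_iInf]
  exact Set.mem_iInter.2 fun k ↦ ⟨(t k).down.2, hη⟩

theorem mon_eq_head {p : ℕ} (t : Fin (p + 1) → CIdx q) :
    (GrCech.mon t : MvPolynomial (CIdx q) Γ(X, W)) =
      MvPolynomial.X (t 0) * GrCech.mon (Fin.tail t) := by
  rw [GrCech.mon_eq_mul t 0]
  rfl

theorem germ_prod_coord {p : ℕ} (t : Fin (p + 1) → CIdx q) :
    Y.presheaf.germ (chart q (t 0).down.1) _ (t 0).down.2 (∏ k, coord q (t 0).down.1 (t k).down.1) *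
        tau q (t 0).down ^ (p + 1) = ∏ k, tau q (t k).down := by
  rw [map_prod, show tau q (t 0).down ^ (p + 1) = ∏ _k : Fin (p + 1), tau q (t 0).down by simp,
    ← Finset.prod_mul_distrib]
  refine Finset.prod_congr rfl fun k _ ↦ ?_
  rw [mul_comm]
  exact tau_mul_cval q (t 0).down (t k).down

variable (hη : genericPoint Y ∈ h ⁻¹ᵁ W)

/-- A section of `O(d)` on an intersection of charts has a numerator. -/
theorem exists_cochain_value (hW : IsAffineOpen W) {d p : ℕ} (t : Fin (p + 1) → CIdx q)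
    {V : Y.Opens} (hVeq : V = ⨅ k, over q h W (t k)) (hηV : genericPoint Y ∈ V)
    (s : Γ(twist q d, V)) :
    ∃ (M : ℕ) (c : MvPolynomial (CIdx q) Γ(X, W)), c.IsHomogeneous (d + (p + 1) * M) ∧
      evK q h W hη c = tval q s hηV * evK q h W hη (GrCech.mon t) ^ M := by
  have hV0 := isAffineOpen_chart_inf q h hW (t 0).down.1
  have hle : V ≤ over q h W (t 0) := hVeq.le.trans (iInf_le _ 0)
  obtain ⟨a, ha⟩ := exists_tval_eq q hηV (t 0).down (hle.trans inf_le_left) s
  set P := Y.presheaf.map (homOfLE inf_le_left :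
      over q h W (t 0) ⟶ chart q (t 0).down.1).op (∏ k, coord q (t 0).down.1 (t k).down.1) with hP
  obtain rfl : V = Y.basicOpen P := hVeq.trans (iInf_over_eq q h t)
  have := hV0.isLocalization_basicOpen P
  obtain ⟨a', ⟨_, m, rfl⟩, e⟩ := IsLocalization.exists_mk'_eq (Submonoid.powers P) a
  have hg := congrArg (Y.presheaf.germ (Y.basicOpen P) _ hηV).hom
    (IsLocalization.mk'_spec (M := Submonoid.powers P) Γ(Y, Y.basicOpen P) a' ⟨P ^ m, m, rfl⟩)
  rw [e, map_mul] at hg
  have hη0 : genericPoint Y ∈ over q h W (t 0) := ⟨(t 0).down.2, hη⟩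
  have hres : ∀ z : Γ(Y, over q h W (t 0)),
      Y.presheaf.germ (Y.basicOpen P) _ hηV (algebraMap _ Γ(Y, Y.basicOpen P) z) =
        Y.presheaf.germ _ _ hη0 z := fun z ↦ TopCat.Presheaf.germ_res_apply _ _ _ _ _
  erw [hres, hres, map_pow] at hg
  have hPg : Y.presheaf.germ _ _ hη0 P * tau q (t 0).down ^ (p + 1) = ∏ k, tau q (t k).down := by
    rw [hP, TopCat.Presheaf.germ_res_apply]
    exact germ_prod_coord q t
  obtain ⟨N, b, hb, hNb⟩ := exists_numerator q h W hη hW (t 0) hV0 rfl hη0 a'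
  refine ⟨N + m, MvPolynomial.X (t 0) ^ (d + (p + 1) * m) * b * GrCech.mon (Fin.tail t) ^ N, ?_, ?_⟩
  · have := ((MvPolynomial.isHomogeneous_X_pow (R := Γ(X, W)) (t 0) (d + (p + 1) * m)).mul hb).mul
      ((GrCech.isHomogeneous_mon (B := Γ(X, W)) (Fin.tail t)).pow N)
    rwa [show d + (p + 1) * (N + m) = d + (p + 1) * m + N + p * N by ring]
  · have hmon : evK q h W hη (GrCech.mon t) = ∏ k, tau q (t k).down := by
      simp [GrCech.mon, map_prod, evK_X]
    have htail : evK q h W hη (GrCech.mon t) =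
        tau q (t 0).down * evK q h W hη (GrCech.mon (Fin.tail t)) := by
      rw [mon_eq_head q t, map_mul, evK_X]
    rw [map_mul, map_mul, map_pow, map_pow, evK_X, ← hNb, ← ha, pow_add (evK q h W hη _)]
    nth_rw 1 [htail]
    rw [hmon, ← hPg]
    rw [← hg]
    ring

/-- A numerator gives a section of `O(d)` on an intersection of charts. -/
theorem exists_section_of_numerator {d p : ℕ} (t : Fin (p + 1) → CIdx q)
    {V : Y.Opens} (hVeq : V = ⨅ k, over q h W (t k)) (hηV : genericPoint Y ∈ V)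
    {M : ℕ} {c : MvPolynomial (CIdx q) Γ(X, W)} (hc : c.IsHomogeneous (d + (p + 1) * M)) :
    ∃ s : Γ(twist q d, V),
      tval q s hηV * evK q h W hη (GrCech.mon t) ^ M = evK q h W hη c := by
  have hle : V ≤ over q h W (t 0) := hVeq.le.trans (iInf_le _ 0)
  obtain rfl : V = Y.basicOpen _ := hVeq.trans (iInf_over_eq q h t)
  set P := Y.presheaf.map (homOfLE inf_le_left :
      over q h W (t 0) ⟶ chart q (t 0).down.1).op (∏ k, coord q (t 0).down.1 (t k).down.1) with hP
  let a₀ : Γ(Y, over q h W (t 0)) := MvPolynomial.eval₂ (h.appLE W _ inf_le_right).hom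
    (fun k ↦ Y.presheaf.map (homOfLE inf_le_left : over q h W (t 0) ⟶ chart q (t 0).down.1).op
      (coord q (t 0).down.1 k.down.1)) c
  have hη0 : genericPoint Y ∈ over q h W (t 0) := hle hηV
  have ha₀ : Y.presheaf.germ _ _ hη0 a₀ * tau q (t 0).down ^ (d + (p + 1) * M) =
      evK q h W hη c := by
    rw [show Y.presheaf.germ _ _ hη0 a₀ = _ from MvPolynomial.eval₂_comp_left
      (Y.presheaf.germ _ _ hη0).hom _ _ c, ← eval₂_scale _ _ _ hc]
    congr 1
    · ext b
      exact TopCat.Presheaf.germ_res_apply Y.presheaf _ _ _ _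
    · funext k
      rw [Function.comp_apply, mul_comm]
      exact (congrArg (tau q (t 0).down * ·) (TopCat.Presheaf.germ_res_apply _ _ _ _ _)).trans
        (tau_mul_cval q (t 0).down k.down)
  have hu : IsUnit (Y.presheaf.map (homOfLE (Y.basicOpen_le P)).op P) :=
    RingedSpace.isUnit_res_basicOpen _ P
  obtain ⟨s, hs⟩ := exists_section q (d := d) (V := Y.basicOpen P) _ (t 0).down
    (hle.trans inf_le_left) hηV
    (Y.presheaf.map (homOfLE (Y.basicOpen_le P)).op a₀ * ((hu.unit⁻¹ : _ˣ) : Γ(Y, _)) ^ M) rfl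
  refine ⟨s, ?_⟩
  have hPg : Y.presheaf.germ _ _ hη0 P * tau q (t 0).down ^ (p + 1) =
      evK q h W hη (GrCech.mon t) := by
    rw [hP, TopCat.Presheaf.germ_res_apply, germ_prod_coord q t]
    simp [GrCech.mon, map_prod, evK_X]
  have hinv : Y.presheaf.germ (Y.basicOpen P) _ hηV ((hu.unit⁻¹ : _ˣ) : Γ(Y, _)) *
      Y.presheaf.germ _ _ hη0 P = 1 := by
    rw [← TopCat.Presheaf.germ_res_apply Y.presheaf (homOfLE (Y.basicOpen_le P)) _ hηV P, ← map_mul,
      IsUnit.val_inv_mul, map_one]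
  rw [hs, map_mul, TopCat.Presheaf.germ_res_apply, map_pow, ← ha₀, ← hPg]
  calc _ = Y.presheaf.germ _ _ hη0 a₀ * tau q (t 0).down ^ (d + (p + 1) * M) *
        (Y.presheaf.germ (Y.basicOpen P) _ hηV ((hu.unit⁻¹ : _ˣ) : Γ(Y, _)) *
          Y.presheaf.germ _ _ hη0 P) ^ M := by ring
    _ = _ := by rw [hinv, one_pow, mul_one]

/-- The rational function of a section, additively. -/
noncomputable def tvalHom {d : ℕ} {V : Y.Opens} (hV : genericPoint Y ∈ V) :
    Γ(twist q d, V) →+ Y.functionField :=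
  AddMonoidHom.mk' (fun s ↦ tval q s hV) fun s t ↦ by
    simp only [tval, map_add]
    rfl

theorem tvalHom_apply {d : ℕ} {V : Y.Opens} (hV : genericPoint Y ∈ V) (s : Γ(twist q d, V)) :
    tvalHom q hV s = tval q s hV := rfl

/-- The opens of the complex of `O(d)` over `W`. -/
noncomputable abbrev cechX (W : X.Opens) {p : ℕ} (a : Fin (p + 1) → CIdx q) : Y.Opens :=
  Cech.obj (fun k : CIdx q ↦ over q h W k) a

theorem cechX_eq {p : ℕ} (a : Fin (p + 1) → CIdx q) :
    cechX q h W a = ⨅ k, over q h W (a k) :=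
  Cech.obj_eq_iInf (X := Y.carrier) (fun k : CIdx q ↦ over q h W k) a

/-- The value of a cochain. -/
noncomputable def cechVal {d p : ℕ}
    (z : (Cech.cx (fun k : CIdx q ↦ over q h W k) (Coh.toAb (twist q d)).obj).X p)
    (a : Fin (p + 1) → CIdx q) : Y.functionField :=
  tval q (Cech.ev (fun k : CIdx q ↦ over q h W k) (Coh.toAb (twist q d)).obj a z)
    ((cechX_eq q h a).ge (genericPoint_mem_iInf q h hη a))

theorem cechVal_d {d p : ℕ}
    (z : (Cech.cx (fun k : CIdx q ↦ over q h W k) (Coh.toAb (twist q d)).obj).X p)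
    (a : Fin (p + 2) → CIdx q) :
    cechVal q h hη ((Cech.cx (fun k : CIdx q ↦ over q h W k) (Coh.toAb (twist q d)).obj).d p (p + 1) z) a =
      ∑ k : Fin (p + 2), (-1 : Y.functionField) ^ (k : ℕ) * cechVal q h hη z (a ∘ k.succAbove) := by
  rw [cechVal, Cech.ev_d, ← tvalHom_apply]
  refine (map_sum (tvalHom q _) _ _).trans (Finset.sum_congr rfl fun k _ ↦ ?_)
  rw [map_zsmul, zsmul_eq_mul]
  push_cast
  rfl

theorem cechVal_ext {d p : ℕ}
    {z z' : (Cech.cx (fun k : CIdx q ↦ over q h W k) (Coh.toAb (twist q d)).obj).X p}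
    (he : ∀ a, cechVal q h hη z a = cechVal q h hη z' a) : z = z' :=
  Cech.ext (fun k : CIdx q ↦ over q h W k) _ fun a ↦ tval_ext q fun _ ↦ he a

theorem exists_numerators (hW : IsAffineOpen W) {d p : ℕ} (f : (Fin (p + 1) → CIdx q) → Y.functionField)
    (hf : ∀ a, ∃ (V : Y.Opens) (_ : V = ⨅ k, over q h W (a k)) (hηV : genericPoint Y ∈ V)
      (s : Γ(twist q d, V)), tval q s hηV = f a) :
    ∃ (M : ℕ) (c : (Fin (p + 1) → CIdx q) → MvPolynomial (CIdx q) Γ(X, W)),
      GrCech.IsCochain ⊤ M (p + 1) d c ∧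
        ∀ a, evK q h W hη (c a) = f a * evK q h W hη (GrCech.mon a) ^ M := by
  choose V hV hηV s hs using hf
  choose M c hc hev using fun a ↦ exists_cochain_value q h hη hW a (hV a) (hηV a) (s a)
  classical
  refine ⟨Finset.univ.sup M, fun a ↦ GrCech.mon a ^ (Finset.univ.sup M - M a) * c a,
    fun a ↦ ⟨trivial, ?_⟩, fun a ↦ ?_⟩
  · have hle := Finset.le_sup (f := M) (Finset.mem_univ a)
    have := ((GrCech.isHomogeneous_mon (B := Γ(X, W)) a).pow (Finset.univ.sup M - M a)).mul (hc a)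
    rwa [show (p + 1) * (Finset.univ.sup M - M a) + (d + (p + 1) * M a) =
      d + (p + 1) * Finset.univ.sup M by
        rw [add_left_comm, ← Nat.mul_add, Nat.sub_add_cancel hle]] at this
  · rw [map_mul, map_pow, hev, hs, mul_left_comm, ← pow_add,
      Nat.sub_add_cancel (Finset.le_sup (f := M) (Finset.mem_univ a))]

theorem evK_dd {p M : ℕ} (c : (Fin p → CIdx q) → MvPolynomial (CIdx q) Γ(X, W))
    (f : (Fin p → CIdx q) → Y.functionField)
    (hc : ∀ a, evK q h W hη (c a) = f a * evK q h W hη (GrCech.mon a) ^ M)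
    (a : Fin (p + 1) → CIdx q) :
    evK q h W hη (GrCech.dd M c a) = evK q h W hη (GrCech.mon a) ^ M *
      ∑ k : Fin (p + 1), (-1 : Y.functionField) ^ (k : ℕ) * f (a ∘ k.succAbove) := by
  rw [GrCech.dd, map_sum, Finset.mul_sum]
  refine Finset.sum_congr rfl fun k _ ↦ ?_
  rw [map_mul, map_mul, map_pow, map_neg, map_one, hc, GrCech.mon_eq_mul a k, map_mul, map_pow,
    evK_X]
  ring

theorem exactAt_succ (hW : IsAffineOpen W) {d : ℕ}
    (hvan : GrCech.Vanish (⊤ : Ideal (MvPolynomial (CIdx q) Γ(X, W))) (rel q h W hη) d) (p : ℕ) :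
    (Cech.cx (fun k : CIdx q ↦ over q h W k) (Coh.toAb (twist q d)).obj).ExactAt (p + 1) := by
  rw [HomologicalComplex.exactAt_iff' _ p (p + 1) (p + 2) (by simp) (by simp),
    ShortComplex.ab_exact_iff]
  intro (z : (Cech.cx (fun k : CIdx q ↦ over q h W k) (Coh.toAb (twist q d)).obj).X (p + 1)) hz
  obtain ⟨M, c, hc, hev⟩ := exists_numerators q h hη hW (d := d) (fun a ↦ cechVal q h hη z a)
    fun a ↦ ⟨_, cechX_eq q h a, _, _, rfl⟩
  have hnull : GrCech.Null (rel q h W hη) (GrCech.dd M c) := fun a ↦ ⟨0, by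
    rw [pow_zero, one_mul, mem_rel_iff q h W hη (GrCech.isCochain_dd hc a).2,
      evK_dd q h hη c _ hev, ← cechVal_d, show (Cech.cx _ _).d (p + 1) (p + 1 + 1) z = 0 from hz,
      mul_eq_zero]
    exact Or.inr ((congrArg (tvalHom q _) (map_zero _)).trans (map_zero _))⟩
  obtain ⟨e, b, hb, hn⟩ := hvan (p + 2) M c hc hnull
  have key := fun a ↦ exists_section_of_numerator q h hη (d := d) a (cechX_eq q h a)
    ((cechX_eq q h a).ge (genericPoint_mem_iInf q h hη a)) (hb a).2
  choose s hs using key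
  refine ⟨Cech.mk (fun k : CIdx q ↦ over q h W k) (Coh.toAb (twist q d)).obj s,
    cechVal_ext q h hη fun a ↦ ?_⟩
  change cechVal q h hη ((Cech.cx _ _).d p (p + 1) _) a = cechVal q h hη z a
  rw [cechVal_d]
  obtain ⟨r, hr⟩ := hn a
  rw [mem_rel_iff q h W hη (((GrCech.isHomogeneous_mon a).pow r).mul
    (((GrCech.isCochain_shift e hc).sub (GrCech.isCochain_dd hb)) a).2), map_mul, map_pow,
    mul_eq_zero, pow_eq_zero_iff'] at hr
  have h0 := hr.resolve_left fun h0 ↦ evK_mon_ne_zero q h W hη a h0.1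
  rw [map_sub, sub_eq_zero, GrCech.shift, map_mul, map_pow, hev,
    evK_dd q h hη b (fun a' ↦ cechVal q h hη (Cech.mk _ _ s) a') (fun a' ↦ by
      rw [cechVal, Cech.ev_mk]; exact (hs a').symm), mul_left_comm, ← pow_add, mul_comm,
    add_comm e M] at h0
  exact (mul_left_cancel₀ (pow_ne_zero _ (evK_mon_ne_zero q h W hη a)) h0).symm

theorem exists_eval_eq (hW : IsAffineOpen W) {d : ℕ}
    (hvan : GrCech.Vanish (⊤ : Ideal (MvPolynomial (CIdx q) Γ(X, W))) (rel q h W hη) d)
    (s : Γ(twist q d, h ⁻¹ᵁ W)) :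
    ∃ b : MvPolynomial (CIdx q) Γ(X, W), b.IsHomogeneous d ∧
      evK q h W hη b = tval q s hη := by
  obtain ⟨M, c, hc, hev⟩ := exists_numerators q h hη hW (d := d) (p := 0) (fun _ ↦ tval q s hη)
    fun a ↦ ⟨⨅ k, over q h W (a k), rfl, genericPoint_mem_iInf q h hη a,
      (twist q d).presheaf.map (homOfLE (le_trans (iInf_le (fun k ↦ over q h W (a k)) 0)
        inf_le_right : ⨅ k, over q h W (a k) ≤ h ⁻¹ᵁ W)).op s,
      tval_map q _ s _⟩
  have hnull : GrCech.Null (rel q h W hη) (GrCech.dd M c) := fun a ↦ ⟨0, by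
    rw [pow_zero, one_mul, mem_rel_iff q h W hη (GrCech.isCochain_dd hc a).2,
      evK_dd q h hη c _ hev, mul_eq_zero]
    right
    simp [Fin.sum_univ_two]⟩
  obtain ⟨e, b, hb, hn⟩ := hvan 1 M c hc hnull
  refine ⟨b (fun i ↦ i.elim0), by simpa using (hb (fun i ↦ i.elim0)).2, ?_⟩
  obtain ⟨k⟩ := (inferInstance : Nonempty (CIdx q))
  obtain ⟨r, hr⟩ := hn fun _ ↦ k
  rw [mem_rel_iff q h W hη (((GrCech.isHomogeneous_mon _).pow r).mul
    (((GrCech.isCochain_shift e hc).sub (GrCech.isCochain_dd hb)) _).2), map_mul, map_pow,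
    mul_eq_zero, pow_eq_zero_iff'] at hr
  have h0 := hr.resolve_left fun h0 ↦ evK_mon_ne_zero q h W hη _ h0.1
  rw [map_sub, sub_eq_zero, GrCech.shift, map_mul, map_pow, hev,
    evK_dd q h hη b (fun _ ↦ evK q h W hη (b (fun i ↦ i.elim0))) (fun a' ↦ by
      rw [Subsingleton.elim a' (fun i ↦ i.elim0)]; simp [GrCech.mon]), mul_left_comm, ← pow_add,
    mul_comm, add_comm e M] at h0
  have := mul_left_cancel₀ (pow_ne_zero _ (evK_mon_ne_zero q h W hη _)) h0
  simpa using this.symm

theorem tval_smul {d : ℕ} {V : Y.Opens} (r : Γ(Y, V)) (s : Γ(twist q d, V))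
    (hV : genericPoint Y ∈ V) :
    tval q (r • s) hV = Y.presheaf.germ V _ hV r * tval q s hV := by
  rw [tval, show (twistData q d).ι.app V (r • s) = r • (twistData q d).ι.app V s from rfl, val_smul]
  rfl

theorem exists_clear {b : Γ(X, W)} (hW : IsAffineOpen W) (hη' : genericPoint Y ∈ h ⁻¹ᵁ X.basicOpen b)
    {D : ℕ} {c' : MvPolynomial (CIdx q) Γ(X, X.basicOpen b)} (hc' : c'.IsHomogeneous D) :
    ∃ (m : ℕ) (c : MvPolynomial (CIdx q) Γ(X, W)), c.IsHomogeneous D ∧
      evK q h W hη c = baseMap h W hη b ^ m * evK q h (X.basicOpen b) hη' c' := by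
  have := hW.isLocalization_basicOpen b
  let ρ := algebraMap Γ(X, W) Γ(X, X.basicOpen b)
  have hev : ∀ c : MvPolynomial (CIdx q) Γ(X, W),
      evK q h (X.basicOpen b) hη' (MvPolynomial.map ρ c) = evK q h W hη c := fun c ↦ by
    rw [evK, evK, MvPolynomial.coe_eval₂Hom, MvPolynomial.coe_eval₂Hom, MvPolynomial.eval₂_map]
    congr 1
    ext r
    change Y.presheaf.germ _ _ hη' (h.app (X.basicOpen b) (X.presheaf.map _ r)) =
      Y.presheaf.germ _ _ hη (h.app W r)
    rw [← ConcreteCategory.comp_apply (X.presheaf.map _) (h.app _), h.naturality]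
    exact TopCat.Presheaf.germ_res_apply Y.presheaf _ _ _ _
  have key : ∀ p : MvPolynomial (CIdx q) Γ(X, X.basicOpen b),
      ∃ (m : ℕ) (c : MvPolynomial (CIdx q) Γ(X, W)),
        MvPolynomial.map ρ c = MvPolynomial.C (ρ b ^ m) * p := by
    intro p
    induction p using MvPolynomial.induction_on' with
    | monomial u a =>
      obtain ⟨⟨a₀, _, m, rfl⟩, ha⟩ := IsLocalization.surj (Submonoid.powers b) a
      refine ⟨m, MvPolynomial.monomial u a₀, ?_⟩
      rw [MvPolynomial.map_monomial, MvPolynomial.C_mul_monomial, ← map_pow, mul_comm]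
      exact congrArg _ ha.symm
    | add p₁ p₂ h₁ h₂ =>
      obtain ⟨m₁, c₁, e₁⟩ := h₁
      obtain ⟨m₂, c₂, e₂⟩ := h₂
      refine ⟨m₁ + m₂, MvPolynomial.C (b ^ m₂) * c₁ + MvPolynomial.C (b ^ m₁) * c₂, ?_⟩
      simp only [map_add, map_mul, map_pow, MvPolynomial.map_C, e₁, e₂]
      ring
  obtain ⟨m, c, hc⟩ := key c'
  refine ⟨m, MvPolynomial.homogeneousComponent D c,
    MvPolynomial.homogeneousComponent_isHomogeneous _ _, ?_⟩
  have hmap : MvPolynomial.map ρ (MvPolynomial.homogeneousComponent D c) =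
      MvPolynomial.C (ρ b ^ m) * c' := by
    have e : MvPolynomial.map ρ (MvPolynomial.homogeneousComponent D c) =
        MvPolynomial.homogeneousComponent D (MvPolynomial.map ρ c) := by
      ext u
      simp only [MvPolynomial.coeff_map, MvPolynomial.coeff_homogeneousComponent]
      split_ifs <;> simp
    rw [e, hc, MvPolynomial.homogeneousComponent_C_mul,
      MvPolynomial.homogeneousComponent_of_mem hc', if_pos rfl]
  rw [← hev, hmap, map_mul, evK_C, map_pow, show baseMap h W hη b =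
    baseMap h (X.basicOpen b) hη' (ρ b) by
      have := hev (MvPolynomial.C b)
      rw [MvPolynomial.map_C, evK_C, evK_C] at this
      exact this.symm]

include hη in
/-- Exactness over `W` passes to the basic opens of `W`. -/
theorem exactAt_basicOpen (hW : IsAffineOpen W) {b : Γ(X, W)}
    (hη' : genericPoint Y ∈ h ⁻¹ᵁ X.basicOpen b) {d : ℕ} (p : ℕ)
    (hex : (Cech.cx (fun k : CIdx q ↦ over q h W k) (Coh.toAb (twist q d)).obj).ExactAt (p + 1)) :
    (Cech.cx (fun k : CIdx q ↦ over q h (X.basicOpen b) k) (Coh.toAb (twist q d)).obj).ExactAt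
      (p + 1) := by
  rw [HomologicalComplex.exactAt_iff' _ p (p + 1) (p + 2) (by simp) (by simp),
    ShortComplex.ab_exact_iff] at hex ⊢
  classical
  intro (z : (Cech.cx (fun k : CIdx q ↦ over q h (X.basicOpen b) k)
    (Coh.toAb (twist q d)).obj).X (p + 1)) hz
  obtain ⟨M, c', hc', hev'⟩ := exists_numerators q h hη' (hW.basicOpen b) (d := d)
    (fun a ↦ cechVal q h hη' z a) fun a ↦ ⟨_, cechX_eq q h a, _, _, rfl⟩
  choose m c hc hev using fun a ↦ exists_clear q h hη hW hη' (hc' a).2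
  set β := baseMap h W hη b with hβ
  let m₀ := Finset.univ.sup m
  have key := fun a : Fin (p + 1 + 1) → CIdx q ↦ exists_section_of_numerator q h hη (d := d) a
    (cechX_eq q h a) ((cechX_eq q h a).ge (genericPoint_mem_iInf q h hη a)) (M := M)
    (c := MvPolynomial.C (b ^ (m₀ - m a)) * c a)
    ((hc a).C_mul _)
  choose s hs using key
  have hsv : ∀ a, cechVal q h hη (Cech.mk (fun k : CIdx q ↦ over q h W k)
      (Coh.toAb (twist q d)).obj s) a = β ^ m₀ * cechVal q h hη' z a := by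
    intro a
    rw [cechVal, Cech.ev_mk]
    refine mul_right_cancel₀ (pow_ne_zero M (evK_mon_ne_zero q h W hη a)) ((hs a).trans ?_)
    have hmon : evK q h W hη (GrCech.mon a) = evK q h (X.basicOpen b) hη' (GrCech.mon a) := by
      simp [GrCech.mon, map_prod, evK_X]
    rw [map_mul, map_pow, map_pow, evK_C, hev, hev', hmon, ← mul_assoc, ← pow_add,
      Nat.sub_add_cancel (Finset.le_sup (f := m) (Finset.mem_univ a)), ← mul_assoc]
  have hd : (Cech.cx (fun k : CIdx q ↦ over q h W k) (Coh.toAb (twist q d)).obj).d (p + 1) (p + 2)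
      (Cech.mk (fun k : CIdx q ↦ over q h W k) (Coh.toAb (twist q d)).obj s) = 0 := by
    refine cechVal_ext q h hη fun a ↦ ?_
    have h0 : cechVal q h hη' ((Cech.cx (fun k : CIdx q ↦ over q h (X.basicOpen b) k)
        (Coh.toAb (twist q d)).obj).d (p + 1) (p + 1 + 1) z) a = 0 := by
      rw [show (Cech.cx _ _).d (p + 1) (p + 1 + 1) z = 0 from hz]
      exact (congrArg (tvalHom q _) (map_zero _)).trans (map_zero _)
    rw [cechVal_d] at h0
    rw [cechVal_d, show cechVal q h hη (0 : (Cech.cx (fun k : CIdx q ↦ over q h W k)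
      (Coh.toAb (twist q d)).obj).X (p + 2)) a = 0 from
        (congrArg (tvalHom q _) (map_zero _)).trans (map_zero _)]
    simp_rw [hsv, mul_left_comm ((-1 : Y.functionField) ^ _)]
    rw [← Finset.mul_sum, h0, mul_zero]
  obtain ⟨(w : (Cech.cx (fun k : CIdx q ↦ over q h W k) (Coh.toAb (twist q d)).obj).X p), hw⟩ :=
    hex _ hd
  have hle : ∀ a : Fin (p + 1) → CIdx q,
      cechX q h (X.basicOpen b) a ≤ cechX q h W a := fun a ↦ by
    rw [cechX_eq, cechX_eq]
    exact iInf_mono fun k ↦ inf_le_inf_left _ (h.preimage_mono (X.basicOpen_le b))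
  have hle' : ∀ a : Fin (p + 1) → CIdx q,
      cechX q h (X.basicOpen b) a ≤ h ⁻¹ᵁ X.basicOpen b := fun a ↦
    (cechX_eq q h a).le.trans ((iInf_le (fun k ↦ over q h (X.basicOpen b) (a k)) 0).trans inf_le_right)
  have hu : ∀ a : Fin (p + 1) → CIdx q, IsUnit ((Y.presheaf.map (homOfLE ((hle' a).trans
      (h.preimage_mono (X.basicOpen_le b)))).op).hom (h.app W b)) := fun a ↦ by
    have h' := hle' a
    rw [Scheme.preimage_basicOpen] at h'
    have := (RingedSpace.isUnit_res_basicOpen Y.toRingedSpace (h.app W b)).map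
      (Y.presheaf.map (homOfLE h').op).hom
    have e : ∀ {U V V' : Y.Opens} (i₁ : V ≤ U) (i₂ : V' ≤ V) (x : Γ(Y, U)),
        Y.presheaf.map (homOfLE i₂).op (Y.presheaf.map (homOfLE i₁).op x) =
          Y.presheaf.map (homOfLE (i₂.trans i₁)).op x := fun i₁ i₂ x ↦ by
      rw [← ConcreteCategory.comp_apply, ← Functor.map_comp]; rfl
    exact (e (Y.basicOpen_le _) h' (h.app W b)) ▸ this
  refine ⟨Cech.mk (fun k : CIdx q ↦ over q h (X.basicOpen b) k) (Coh.toAb (twist q d)).obj fun a ↦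
    (((hu a).unit ^ m₀)⁻¹ : _ˣ).1 • (twist q d).presheaf.map (homOfLE (hle a)).op
      (Cech.ev (fun k : CIdx q ↦ over q h W k) (Coh.toAb (twist q d)).obj a w),
    cechVal_ext q h hη' fun a ↦ ?_⟩
  change cechVal q h hη' ((Cech.cx _ _).d p (p + 1) _) a = cechVal q h hη' z a
  have hwv := congrArg (fun t ↦ cechVal q h hη t a) hw
  simp only [hsv] at hwv
  erw [cechVal_d] at hwv
  have hv : ∀ a', cechVal q h hη' (Cech.mk (fun k : CIdx q ↦ over q h (X.basicOpen b) k)
      (Coh.toAb (twist q d)).obj fun a ↦ (((hu a).unit ^ m₀)⁻¹ : _ˣ).1 •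
      (twist q d).presheaf.map (homOfLE (hle a)).op
      (Cech.ev (fun k : CIdx q ↦ over q h W k) (Coh.toAb (twist q d)).obj a w)) a' =
        (β ^ m₀)⁻¹ * cechVal q h hη w a' := by
    intro a'
    rw [cechVal, Cech.ev_mk]
    refine (tval_smul q _ _ _).trans ?_
    rw [map_units_inv]
    congr 1
    rw [Units.val_pow_eq_pow_val, map_pow, IsUnit.unit_spec, TopCat.Presheaf.germ_res_apply]
    rfl
  rw [cechVal_d]
  simp_rw [hv, mul_left_comm ((-1 : Y.functionField) ^ _)]
  rw [← Finset.mul_sum, hwv, inv_mul_cancel_left₀]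
  refine pow_ne_zero _ fun h0 ↦ ?_
  have := ((hu fun _ ↦ Classical.arbitrary _).map (Y.presheaf.germ _ (genericPoint Y)
    ((cechX_eq q h _).ge (genericPoint_mem_iInf q h hη' _))).hom).ne_zero
  exact this ((TopCat.Presheaf.germ_res_apply Y.presheaf _ _ _ _).trans h0)

end Cech

theorem subsingleton_ext_of_exactAt {W : X.Opens} (hW : IsAffineOpen W) {d p : ℕ}
    (hex : (Cech.cx (fun k : CIdx q ↦ over q h W k) (Coh.toAb (twist q d)).obj).ExactAt (p + 1)) :
    Subsingleton (Ext.{u} (Cohom.freeFun.obj (h ⁻¹ᵁ W)) (Coh.toAb (twist q d)) (p + 1)) := by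
  have := twist_isQuasicoherent q d
  obtain ⟨e⟩ := Cohom.nonempty_cechH_equiv (fun k : CIdx q ↦ over q h W k) (twist q d)
    (fun r t ↦ isAffineOpen_iInf_over q h hW t) (p + 1)
  have hsup : ⨆ k, over q h W k = h ⁻¹ᵁ W := by
    refine le_antisymm (iSup_le fun k ↦ inf_le_right) fun y hy ↦ ?_
    obtain ⟨k, hk⟩ := exists_idx q y
    exact Opens.mem_iSup.2 ⟨⟨k⟩, hk, hy⟩
  rw [hsup] at e
  have : Subsingleton (CohB1.cechH (fun k : CIdx q ↦ over q h W k) (twist q d) (p + 1)) :=
    AddCommGrpCat.subsingleton_of_isZero ((HomologicalComplex.exactAt_iff_isZero_homology _ _).1 hex)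
  exact e.symm.subsingleton

theorem subsingleton_ext_of_notMem {V : X.Opens} (hV : genericPoint Y ∉ h ⁻¹ᵁ V) (d p : ℕ) :
    Subsingleton (Ext.{u} (Cohom.freeFun.obj (h ⁻¹ᵁ V)) (Coh.toAb (twist q d)) p) := by
  rw [show h ⁻¹ᵁ V = ⊥ from le_antisymm (fun y hy ↦ absurd (genericPoint_mem hy) hV) bot_le]
  exact Cohom.subsingleton_ext_freeFun_bot _ _

/-- Over an affine open of a Noetherian base, the large twists are acyclic on the basic opens,
with finite sections. -/
theorem exists_twist_bound {W : X.Opens} (hW : IsAffineOpen W) [IsNoetherianRing Γ(X, W)] :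
    ∃ d₀, ∀ d, d₀ ≤ d →
      (∀ (b : Γ(X, W)) (p : ℕ), Subsingleton (Ext.{u}
        (Cohom.freeFun.obj (h ⁻¹ᵁ X.basicOpen b)) (Coh.toAb (twist q d)) (p + 1))) ∧
      Module.Finite Γ(X, W) Γ((Scheme.Modules.pushforward h).obj (twist q d), W) := by
  by_cases hη : genericPoint Y ∈ h ⁻¹ᵁ W
  swap
  · have hbot : h ⁻¹ᵁ W = ⊥ := le_antisymm (fun y hy ↦ absurd (genericPoint_mem hy) hη) bot_le
    refine ⟨0, fun d _ ↦ ⟨fun b p ↦ subsingleton_ext_of_notMem q h
      (fun hh ↦ hη (h.preimage_mono (X.basicOpen_le b) hh)) _ _, ?_⟩⟩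
    have : Subsingleton Γ((Scheme.Modules.pushforward h).obj (twist q d), W) := by
      change Subsingleton ((Coh.toAb (twist q d)).obj.obj (op (h ⁻¹ᵁ W)))
      rw [hbot]
      exact Cohom.subsingleton_sections_bot _
    exact Module.Finite.of_surjective (0 : Γ(X, W) →ₗ[Γ(X, W)] _) fun x ↦
      ⟨0, Subsingleton.elim _ _⟩
  obtain ⟨d₀, hd₀⟩ := GrCech.exists_vanish (⊤ : Ideal (MvPolynomial (CIdx q) Γ(X, W)))
    (rel q h W hη) (fun _ _ _ ↦ trivial) (homog_rel q h W hη)
  refine ⟨d₀, fun d hd ↦ ⟨fun b p ↦ ?_, ?_⟩⟩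
  · by_cases hη' : genericPoint Y ∈ h ⁻¹ᵁ X.basicOpen b
    · exact subsingleton_ext_of_exactAt q h (hW.basicOpen b)
        (exactAt_basicOpen q h hη hW hη' p (exactAt_succ q h hη hW (hd₀ d hd) p))
    · exact subsingleton_ext_of_notMem q h hη' _ _
  · let _ : Algebra Γ(X, W) Y.functionField := (baseMap h W hη).toAlgebra
    let L : Γ((Scheme.Modules.pushforward h).obj (twist q d), W) →ₗ[Γ(X, W)] Y.functionField :=
      { toFun := fun s ↦ tval q (show Γ(twist q d, h ⁻¹ᵁ W) from s) hη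
        map_add' := fun s t ↦ (tvalHom q (d := d) hη).map_add _ _
        map_smul' := fun r s ↦ by
          change val ((twistData q d).ι.app (h ⁻¹ᵁ W) (h.app W r • (show Γ(twist q d, h ⁻¹ᵁ W) from s))) hη =
            baseMap h W hη r * _
          rw [show (twistData q d).ι.app (h ⁻¹ᵁ W) (h.app W r • (show Γ(twist q d, h ⁻¹ᵁ W) from s)) =
            h.app W r • (twistData q d).ι.app (h ⁻¹ᵁ W) (show Γ(twist q d, h ⁻¹ᵁ W) from s) from rfl,
            val_smul]
          rfl }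
    let E : MvPolynomial (CIdx q) Γ(X, W) →ₗ[Γ(X, W)] Y.functionField :=
      { toFun := evK q h W hη
        map_add' := map_add _
        map_smul' := fun r b ↦ by
          rw [MvPolynomial.smul_eq_C_mul, map_mul, evK_C]
          rfl }
    let R := (MvPolynomial.homogeneousSubmodule (CIdx q) Γ(X, W) d).map E
    have hR : R.FG := (MvPolynomial.homogeneousSubmodule_fg (CIdx q) Γ(X, W) d).map E
    have : Module.Finite Γ(X, W) R := Module.Finite.iff_fg.2 hR
    exact Module.Finite.of_injective (L.codRestrict R fun s ↦ by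
        obtain ⟨b, hb, he⟩ := exists_eval_eq q h hη hW (hd₀ d hd) (show Γ(twist q d, h ⁻¹ᵁ W) from s)
        exact ⟨b, hb, he⟩)
      fun s t hst ↦ tval_ext q fun _ ↦ congrArg Subtype.val hst

end GrothLib.ProjCoh
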